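import Cfsg.Agent.Lib.Chev.E6Alt.Vec

/-!
Toral vectors of order five that a word doubles, their stabiliser and their partners, and the absence of
toral vectors of order eleven that a word doubles.
-/

set_option autoImplicit false
set_option maxRecDepth 100000

namespace Cfsg.Lib.Chev.E6Alt

open Cfsg.Lie Finset

local instance factFive : Fact (Nat.Prime 5) := ⟨by norm_num⟩

local instance factEleven : Fact (Nat.Prime 11) := ⟨by norm_num⟩

/-- The chosen vector. -/
def x₀ : Fin 6 → ZMod 5 := ![2, 0, 4, 0, 2, 1]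

/-- The vector whose kernel contains the centralisers. -/
def zV : Fin 6 → ℤ := ![0, 0, 1, 0, -1, 0]

theorem eI_val : ∀ r < 72, ((TwE6Five.eI 1 0 r : ℤ) : ZMod 5) = val x₀ r ∧
    0 ≤ TwE6Five.eI 1 0 r ∧ TwE6Five.eI 1 0 r < 5 := by
  decide +kernel

/-- The stabiliser of the chosen vector. -/
theorem stab_x₀ {w : List ℕ} (hw : IsWord chevE6 w) (h : act w x₀ = x₀) :
    ∃ v ∈ TwE6Five.stW, ∀ k < 6, wperm tblE6 w (tblE6.simp' k) = wperm tblE6 v (tblE6.simp' k) := by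
  refine TwE6Five.stab_word hw fun r hr => ?_
  have hlt : wperm tblE6 w r < 72 := wperm_lt certE6C hw hr
  obtain ⟨e1, a1, b1⟩ := eI_val r hr
  obtain ⟨e2, a2, b2⟩ := eI_val _ hlt
  have e : val x₀ (wperm tblE6 w r) = val x₀ r := by rw [← val_act hw x₀ hr, h]
  rw [← e1, ← e2, ZMod.intCast_eq_intCast_iff'] at e
  push_cast at e
  omega

/-- An integral vector keeps its shape under the stabiliser if it does on the listed words. -/
theorem stW_exp : ∀ v ∈ TwE6Five.stW, ∀ k < 6,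
    wperm tblE6 (List.replicate 12 v).flatten (tblE6.simp' k) = tblE6.simp' k := by decide +kernel

theorem stW_fix : ∀ v ∈ TwE6Five.stW, ∀ k : Fin 6, val zV (wperm tblE6 v (tblE6.simp' k)) = zV k ∧
    co6 (wperm tblE6 v (tblE6.simp' 0)) k = co6 (tblE6.simp' 0) k ∧
    co6 (wperm tblE6 v (tblE6.simp' 5)) k = co6 (tblE6.simp' 5) k ∧
    co6 (wperm tblE6 v (tblE6.simp' 4)) k - co6 (wperm tblE6 v (tblE6.simp' 2)) k =
      co6 (tblE6.simp' 4) k - co6 (tblE6.simp' 2) k := by decide +kernel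

theorem zV_lo : ∀ r < 72, val x₀ r = 0 → val zV r = 0 := by decide +kernel

/-! ### Order five -/

theorem seg_chk : ∀ p ∈ segL, p.1 < p.2.1 ∧ p.2.1 < 6 ∧ p.2.2 < 72 ∧ ∀ k : Fin 6,
    co6 p.2.2 k = ![![(0 : ℤ), 0, 0, 0, 0, 0], ![1, 0, 0, 0, 0, 0], ![1, 0, 1, 0, 0, 0], ![1, 0, 1, 1, 0, 0],
      ![1, 0, 1, 1, 1, 0], ![1, 0, 1, 1, 1, 1]] (Fin.ofNat 6 p.2.1) k -
      ![![(0 : ℤ), 0, 0, 0, 0, 0], ![1, 0, 0, 0, 0, 0], ![1, 0, 1, 0, 0, 0], ![1, 0, 1, 1, 0, 0],
      ![1, 0, 1, 1, 1, 0], ![1, 0, 1, 1, 1, 1]] (Fin.ofNat 6 p.1) k := by decide +kernel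

theorem seg_all : ∀ i < 6, ∀ j < 6, i < j → ∃ p ∈ segL, p.1 = i ∧ p.2.1 = j := by decide +kernel

/-- A vector of order five vanishes at some root. -/
theorem exists_zero_five (v : Fin 6 → ZMod 5) : ∃ r < 72, val v r = 0 := by
  let P : Fin 6 → ZMod 5 := fun i => ∑ k, ((![![(0 : ℤ), 0, 0, 0, 0, 0], ![1, 0, 0, 0, 0, 0],
    ![1, 0, 1, 0, 0, 0], ![1, 0, 1, 1, 0, 0], ![1, 0, 1, 1, 1, 0], ![1, 0, 1, 1, 1, 1]] i k : ℤ) : ZMod 5) * v k
  obtain ⟨i, j, hij, he⟩ := Fintype.exists_ne_map_eq_of_card_lt P (by simp)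
  wlog hlt : i < j generalizing i j
  · exact this j i hij.symm he.symm (lt_of_le_of_ne (not_lt.1 hlt) hij.symm)
  obtain ⟨p, hp, h1, h2⟩ := seg_all i i.2 j j.2 hlt
  obtain ⟨-, -, hr, hk⟩ := seg_chk p hp
  refine ⟨_, hr, ?_⟩
  have hi : Fin.ofNat 6 p.1 = i := Fin.ext (by simp [h1, Nat.mod_eq_of_lt i.2])
  have hj : Fin.ofNat 6 p.2.1 = j := Fin.ext (by simp [h2, Nat.mod_eq_of_lt j.2])
  rw [hi, hj] at hk
  calc val v p.2.2 = P j - P i := by
        simp only [val, P, ← Finset.sum_sub_distrib]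
        exact Finset.sum_congr rfl fun k _ => by rw [hk k]; push_cast; ring
    _ = 0 := by rw [he, sub_self]

/-- The count of a residue among the values at the weights. -/
def wcN (ℓ : ℕ) (v : List ℤ) (j : ℕ) : ℕ :=
  (wtL.filter fun w => decide ((((w.zip v).map fun q => q.1 * q.2).sum) % (ℓ : ℤ) = (j : ℤ))).length

theorem wtL_len : wtL.length = 27 ∧ ∀ w ∈ wtL, w.length = 6 := by decide +kernel

theorem wcnt_eq {ℓ : ℕ} [Fact ℓ.Prime] {x : Fin 6 → ZMod ℓ} {v : List ℤ} (hl : v.length = 6)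
    (h : ∀ k : Fin 6, x k = ((v.getD k 0 : ℤ) : ZMod ℓ)) {j : ℕ} (hj : j < ℓ) :
    wcnt x (j : ZMod ℓ) = wcN ℓ v j := by
  classical
  have hdot : ∀ (w : List ℤ), w.length = 6 →
      ((w.zip v).map fun q => q.1 * q.2).sum = ∑ k : Fin 6, w.getD k 0 * v.getD k 0 := by
    intro w hw
    match w, hw, v, hl with
    | [a, b, c, d, e, f], _, [a', b', c', d', e', f'], _ => simp [Fin.sum_univ_six, add_assoc]
  have hmap : wtL = (List.range 27).map fun a => wtL.getD a [] := by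
    refine List.ext_getElem (by simp [wtL_len.1]) fun a h1 h2 => ?_
    simp [List.getElem?_eq_getElem h1]
  rw [wcN, hmap, List.filter_map, List.length_map]
  show ((Finset.range 27).filter _).card = _
  rw [← List.toFinset_card_of_nodup (List.nodup_range.filter _), List.toFinset_filter]
  refine congrArg Finset.card (Finset.ext fun a => ?_)
  simp only [Finset.mem_filter, List.mem_toFinset, List.mem_range, Finset.mem_range, Function.comp,
    decide_eq_true_eq]
  refine and_congr_right fun ha => ?_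
  have hmem : wtL.getD a [] ∈ wtL := by
    rw [List.getD_eq_getElem _ _ (by rw [wtL_len.1]; exact ha)]; exact List.getElem_mem _
  rw [hdot _ (wtL_len.2 _ hmem)]
  have : wval x a = ((∑ k : Fin 6, (wtL.getD a []).getD k 0 * v.getD k 0 : ℤ) : ZMod ℓ) := by
    simp only [wval, h, Int.cast_sum, Int.cast_mul]
  rw [this, ← Int.cast_natCast, ZMod.intCast_eq_intCast_iff']
  rw [Int.emod_eq_of_lt (Int.natCast_nonneg j) (by exact_mod_cast hj)]

theorem nf_five_chk : ∀ a ∈ (incs 5 6 0).filter (fun a => decide (a.sum % 5 = 0)),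
    (∀ k : Fin 6, (((vecOf 3 a).getD k 0 : ℤ) : ZMod 5) = 0) ∨
    wcN 5 (vecOf 3 a) 1 ≠ wcN 5 (vecOf 3 a) 2 ∨ wcN 5 (vecOf 3 a) 1 ≠ wcN 5 (vecOf 3 a) 4 ∨
    wcN 5 (vecOf 3 a) 1 ≠ wcN 5 (vecOf 3 a) 3 ∨
    ∀ k : Fin 6, (((vecOf 3 a).getD k 0 : ℤ) : ZMod 5) = ((nfV.getD k 0 : ℤ) : ZMod 5) := by decide +kernel

theorem nfW_chk : (∀ i ∈ nfW, i < 6) ∧ act nfW (fun k : Fin 6 => ((nfV.getD k 0 : ℤ) : ZMod 5)) = x₀ := by
  refine ⟨by decide +kernel, funext ?_⟩
  decide +kernel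

/-- A vector of order five doubled by a word is moved to the chosen one by a word. -/
theorem exists_word_five {v : Fin 6 → ZMod 5} (hv : v ≠ 0) {w : List ℕ} (hw : IsWord chevE6 w)
    (h : act w v = (3 : ZMod 5) • v) : ∃ u, IsWord chevE6 u ∧ act u v = x₀ := by
  obtain ⟨r, hr, h0⟩ := exists_zero_five v
  obtain ⟨u, hu, hnf⟩ := exists_NF (1 : ZMod 5) v hr h0
  obtain ⟨a, ha, hk⟩ := eq_vecOf (ι := (1 : ZMod 5)) (by decide) (half := 3) (by decide) hnf
  have hsc : ∀ j : ZMod 5, wcnt v (3 * j) = wcnt v j := fun j => (cnt_scale hw (by decide) h j).2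
  have hc : ∀ j : ℕ, j < 5 → wcN 5 (vecOf 3 a) j = wcnt v (j : ZMod 5) := fun j hj => by
    rw [← wcnt_eq (x := act u v) (v := vecOf 3 a) rfl hk hj, wcnt_act hu]
  rcases nf_five_chk a ha with h1 | h1 | h1 | h1 | h1
  · exfalso
    apply hv
    have hz : act u v = 0 := funext fun k => by rw [hk k, h1 k]; rfl
    funext k
    have hs : tblE6.simp' k < 72 := certE6C.spec.simp_lt k k.2
    have e : wperm tblE6 u (wperm tblE6 u.reverse (tblE6.simp' k)) = tblE6.simp' k := by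
      have := wperm_reverse certE6C hu.reverse (show tblE6.simp' k < chevE6.nroots from hs)
      rwa [List.reverse_reverse] at this
    rw [← val_simp v k, ← e, ← val_act hu v (show wperm tblE6 u.reverse (tblE6.simp' k) < 72 from
      wperm_lt certE6C hu.reverse hs), hz, val_zero]
    rfl
  · refine absurd ?_ h1
    rw [hc 1 (by norm_num), hc 2 (by norm_num), ← hsc ((2 : ℕ) : ZMod 5)]
    exact congrArg _ (by decide)
  · refine absurd ?_ h1
    rw [hc 1 (by norm_num), hc 4 (by norm_num), ← hsc ((4 : ℕ) : ZMod 5),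
      show (3 : ZMod 5) * ((4 : ℕ) : ZMod 5) = ((2 : ℕ) : ZMod 5) by decide, ← hsc ((2 : ℕ) : ZMod 5)]
    exact congrArg _ (by decide)
  · refine absurd ?_ h1
    rw [hc 1 (by norm_num), hc 3 (by norm_num), ← hsc ((1 : ℕ) : ZMod 5)]
    exact congrArg _ (by decide)
  · refine ⟨u ++ nfW, hu.append nfW_chk.1, ?_⟩
    rw [act_append hu nfW_chk.1, show act u v = fun k : Fin 6 => ((nfV.getD k 0 : ℤ) : ZMod 5) from
      funext fun k => (hk k).trans (h1 k)]
    exact nfW_chk.2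

/-! ### Partners -/

theorem part_chk : ∀ v ∈ TwE6Five.stW, ∀ a : Fin 5, ∀ b : Fin 5, ∀ c : Fin 5,
    (∀ k : Fin 6, val (![0, (a : ℕ), (b : ℕ), (c : ℕ), (b : ℕ), 0] : Fin 6 → ZMod 5) (wperm tblE6 v (tblE6.simp' k)) =
      3 * (![0, (a : ℕ), (b : ℕ), (c : ℕ), (b : ℕ), 0] : Fin 6 → ZMod 5) k) →
    (a = 0 ∧ b = 0 ∧ c = 0) ∨ ∃ p ∈ partW, p.1 = a ∧ p.2.1 = b ∧ p.2.2.1 = c := by decide +kernel

theorem partW_chk : ∀ p ∈ partW, (∀ i ∈ p.2.2.2, i < 6) ∧
    (∀ k : Fin 6, act p.2.2.2 (![0, p.1, p.2.1, p.2.2.1, p.2.1, 0] : Fin 6 → ZMod 5) k = x₀ k) ∧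
    (∀ r < 72, val x₀ r = 0 → val zV (wperm tblE6 p.2.2.2 r) = 0) ∧
    ∀ v ∈ TwE6Five.stW, ∀ k : Fin 6, val zV (wperm tblE6 (p.2.2.2 ++ v) (tblE6.simp' k)) =
      val zV (wperm tblE6 p.2.2.2 (tblE6.simp' k)) := by decide +kernel

/-- A word of the stabiliser doubling a partner: the partner is moved to the chosen vector by a word that
carries the kernel of the centralisers to itself. -/
theorem exists_partner {y : Fin 6 → ZMod 5} (hy : y ≠ 0) {w : List ℕ} (hw : IsWord chevE6 w)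
    (hx : act w x₀ = x₀) (h : act w y = (3 : ZMod 5) • y) :
    ∃ u, IsWord chevE6 u ∧ act u y = x₀ ∧ (∀ r < 72, val x₀ r = 0 → val zV (wperm tblE6 u r) = 0) ∧
      ∀ w', IsWord chevE6 w' → act w' x₀ = x₀ → act w' (act u zV) = act u zV := by
  obtain ⟨v, hv, hvk⟩ := stab_x₀ hw hx
  have hy' : ∀ k : Fin 6, val y (wperm tblE6 v (tblE6.simp' k)) = 3 * y k := fun k => by
    rw [← hvk k k.2]
    exact congrFun h k
  have hfun : ∀ (f : Fin 6 → ℤ) (L : Fin 6 → ℤ),
      (∀ k, ∑ i, L i * co6 (wperm tblE6 v (tblE6.simp' i)) k = f k) → (∀ k, ∑ i, L i * co6 (tblE6.simp' i) k = f k) →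
        ∑ i, (L i : ZMod 5) * y i = 0 := by
    intro f L h1 h2
    have e1 : ∑ i, (L i : ZMod 5) * val y (wperm tblE6 v (tblE6.simp' i)) = ∑ k, (f k : ZMod 5) * y k := by
      simp only [val, Finset.mul_sum, ← h1, Int.cast_sum, Int.cast_mul, Finset.sum_mul]
      rw [Finset.sum_comm]
      exact Finset.sum_congr rfl fun k _ => Finset.sum_congr rfl fun i _ => by ring
    have e2 : ∑ i, (L i : ZMod 5) * y i = ∑ k, (f k : ZMod 5) * y k := by
      conv_lhs => enter [2, i]; rw [← val_simp y i]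
      simp only [val, Finset.mul_sum, ← h2, Int.cast_sum, Int.cast_mul, Finset.sum_mul]
      rw [Finset.sum_comm]
      exact Finset.sum_congr rfl fun k _ => Finset.sum_congr rfl fun i _ => by ring
    simp only [hy'] at e1
    rw [← e2, ← sub_eq_zero, ← Finset.sum_sub_distrib] at e1
    have e3 : (2 : ZMod 5) * ∑ i, (L i : ZMod 5) * y i = 0 := by
      rw [← e1, Finset.mul_sum]
      exact Finset.sum_congr rfl fun i _ => by ring
    exact (mul_eq_zero.1 e3).resolve_left (by decide)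
  have hf := stW_fix v hv
  have h0 := hfun (fun k => co6 (tblE6.simp' 0) k) ![1, 0, 0, 0, 0, 0]
    (fun k => by simpa [Fin.sum_univ_six] using (hf k).2.1) (fun k => by simp [Fin.sum_univ_six])
  have h5 := hfun (fun k => co6 (tblE6.simp' 5) k) ![0, 0, 0, 0, 0, 1]
    (fun k => by simpa [Fin.sum_univ_six] using (hf k).2.2.1) (fun k => by simp [Fin.sum_univ_six])
  have h4 := hfun (fun k => co6 (tblE6.simp' 4) k - co6 (tblE6.simp' 2) k) ![0, 0, -1, 0, 1, 0]
    (fun k => by simp [Fin.sum_univ_six]; linarith [(hf k).2.2.2]) (fun k => by simp [Fin.sum_univ_six]; ring)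
  simp [Fin.sum_univ_six] at h0 h5 h4
  have hyeq : y = (![0, ((y 1).val : ℕ), ((y 2).val : ℕ), ((y 3).val : ℕ), ((y 2).val : ℕ), 0] : Fin 6 → ZMod 5) := by
    funext k
    fin_cases k <;> simp [h0, h5]
    linear_combination h4
  rcases part_chk v hv ⟨_, ZMod.val_lt (y 1)⟩ ⟨_, ZMod.val_lt (y 2)⟩ ⟨_, ZMod.val_lt (y 3)⟩
    (fun k => by simp only; rw [← hyeq]; exact hy' k) with ⟨h1, h2, h3⟩ | ⟨p, hp, h1, h2, h3⟩
  · exfalso
    apply hy
    simp only [Fin.ext_iff, Fin.val_zero] at h1 h2 h3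
    rw [hyeq, h1, h2, h3]
    funext k
    fin_cases k <;> simp
  · obtain ⟨hu, hux, huz, hst⟩ := partW_chk p hp
    refine ⟨p.2.2.2, hu, funext fun k => ?_, huz, fun w' hw' hw'x => ?_⟩
    · rw [← hux k, hyeq, h1, h2, h3]
    · obtain ⟨v', hv', hk'⟩ := stab_x₀ hw' hw'x
      funext k
      show val (act p.2.2.2 zV) (wperm tblE6 w' (tblE6.simp' k)) = _
      rw [val_act hu zV (wperm_lt certE6C hw' (certE6C.spec.simp_lt k k.2)), hk' k k.2, ← wperm_append]
      exact hst v' hv' k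

/-! ### Order eleven -/

theorem nf_eleven_chk : ∀ a ∈ (incs 11 6 0).filter (fun a => decide (a.sum % 11 = 0)),
    (∀ k : Fin 6, (((vecOf 6 a).getD k 0 : ℤ) : ZMod 11) = 0) ∨
    (List.range 10).any (fun j => wcN 11 (vecOf 6 a) (j + 1) != wcN 11 (vecOf 6 a) 1) = true := by decide +kernel

/-- No vector of order eleven is multiplied by a primitive residue by a word. -/
theorem no_word_eleven {v : Fin 6 → ZMod 11} (hv : v ≠ 0) {w : List ℕ} (hw : IsWord chevE6 w)
    (h : act w v = (6 : ZMod 11) • v) : False := by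
  have hs := cnt_scale hw (show (6 : ZMod 11) ≠ 0 by decide) h
  have hpow : ∀ (i : ℕ) (j : ZMod 11), cnt v ((6 : ZMod 11) ^ i * j) = cnt v j ∧ wcnt v ((6 : ZMod 11) ^ i * j) = wcnt v j := by
    intro i
    induction i with
    | zero => intro j; simp
    | succ i ih =>
      intro j
      rw [pow_succ', mul_assoc, (hs _).1, (hs _).2]
      exact ih j
  have hall : ∀ j : ZMod 11, j ≠ 0 → cnt v j = cnt v 1 ∧ wcnt v j = wcnt v 1 := by
    intro j hj
    obtain ⟨i, hi⟩ : ∃ i : Fin 10, (6 : ZMod 11) ^ (i : ℕ) = j := by revert j; decide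
    have := hpow i 1
    rwa [mul_one, hi] at this
  have hzero : ∃ r < 72, val v r = 0 := by
    by_contra hno
    have h0 : cnt v 0 = 0 := Finset.card_eq_zero.2 (Finset.filter_eq_empty_iff.2 fun r hr e =>
      hno ⟨r, Finset.mem_range.1 hr, e⟩)
    have htot : ∑ j : ZMod 11, cnt v j = 72 := by
      simp only [cnt]
      rw [← Finset.card_eq_sum_card_fiberwise (f := val v) (fun r _ => Finset.mem_univ _), Finset.card_range]
    rw [← Finset.add_sum_erase _ _ (Finset.mem_univ (0 : ZMod 11)), h0,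
      Finset.sum_congr rfl fun j hj => (hall j (Finset.ne_of_mem_erase hj)).1, Finset.sum_const,
      Finset.card_erase_of_mem (Finset.mem_univ _)] at htot
    simp at htot
    omega
  obtain ⟨r, hr, h0⟩ := hzero
  obtain ⟨u, hu, hnf⟩ := exists_NF (2 : ZMod 11) v hr h0
  obtain ⟨a, ha, hk⟩ := eq_vecOf (ι := (2 : ZMod 11)) (by decide) (half := 6) (by decide) hnf
  have hc : ∀ j : ℕ, j < 11 → wcN 11 (vecOf 6 a) j = wcnt v (j : ZMod 11) := fun j hj => by
    rw [← wcnt_eq (x := act u v) (v := vecOf 6 a) rfl hk hj, wcnt_act hu]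
  rcases nf_eleven_chk a ha with h1 | h1
  · apply hv
    have hz : act u v = 0 := funext fun k => by rw [hk k, h1 k]; rfl
    funext k
    have hsl : tblE6.simp' k < 72 := certE6C.spec.simp_lt k k.2
    have e : wperm tblE6 u (wperm tblE6 u.reverse (tblE6.simp' k)) = tblE6.simp' k := by
      have := wperm_reverse certE6C hu.reverse (show tblE6.simp' k < chevE6.nroots from hsl)
      rwa [List.reverse_reverse] at this
    rw [← val_simp v k, ← e, ← val_act hu v (show wperm tblE6 u.reverse (tblE6.simp' k) < 72 from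
      wperm_lt certE6C hu.reverse hsl), hz, val_zero]
    rfl
  · obtain ⟨j, hj, hne⟩ := List.any_eq_true.1 h1
    rw [List.mem_range] at hj
    rw [bne_iff_ne, hc _ (by omega), hc 1 (by norm_num), Nat.cast_one] at hne
    refine hne (hall _ fun e => ?_).2
    rw [ZMod.natCast_eq_zero_iff] at e
    exact absurd (Nat.le_of_dvd (by omega) e) (by omega)

end Cfsg.Lib.Chev.E6Alt
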