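import Mathlib

/-!
Data on the root system of type E6: words moving the highest root, segments of a chain of five fundamental
roots, the weights of the module of dimension 27 and their reflections, and words moving toral vectors of
order five.
-/

set_option autoImplicit false

namespace Cfsg.Lib.Chev.E6Alt

/-- Words moving the highest root to each root. -/
def hiW : List (List ℕ) :=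
  [[1, 3, 4, 2, 3, 0, 2, 1, 3, 4, 5, 4, 3, 2, 1, 3, 4, 0, 2, 3, 1], [3, 4, 2, 3, 0, 2, 1, 3, 4, 5, 4, 3, 2, 1,
  3, 4, 0, 2, 3, 1], [4, 2, 3, 0, 2, 1, 3, 4, 5, 4, 3, 2, 1, 3, 4, 0, 2, 3, 1], [2, 3, 0, 2, 1, 3, 4, 5, 4, 3,
  2, 1, 3, 4, 0, 2, 3, 1], [2, 3, 0, 2, 1, 3, 4, 5, 3, 2, 1, 3, 4, 0, 2, 3, 1], [4, 3, 0, 2, 1, 3, 4, 5, 4, 3,
  2, 1, 3, 4, 0, 2, 3, 1], [3, 0, 2, 1, 3, 4, 5, 4, 3, 2, 1, 3, 4, 0, 2, 3, 1], [3, 0, 2, 1, 3, 4, 5, 3, 2, 1,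
  3, 4, 0, 2, 3, 1], [0, 2, 1, 3, 4, 5, 4, 3, 2, 1, 3, 4, 0, 2, 3, 1], [0, 2, 1, 3, 4, 5, 3, 2, 1, 3, 4, 0, 2,
  3, 1], [0, 2, 1, 3, 4, 5, 2, 1, 3, 4, 0, 2, 3, 1], [0, 2, 3, 4, 5, 4, 3, 2, 1, 3, 4, 0, 2, 3, 1], [0, 2, 3, 4,
  5, 3, 2, 1, 3, 4, 0, 2, 3, 1], [0, 2, 3, 4, 5, 2, 1, 3, 4, 0, 2, 3, 1], [0, 2, 3, 4, 5, 1, 3, 4, 0, 2, 3, 1],
  [0, 2, 3, 4, 5, 1, 3, 4, 2, 3, 1], [4, 3, 2, 1, 3, 4, 5, 4, 3, 2, 1, 3, 4, 0, 2, 3, 1], [3, 2, 1, 3, 4, 5, 4,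
  3, 2, 1, 3, 4, 0, 2, 3, 1], [3, 2, 1, 3, 4, 5, 3, 2, 1, 3, 4, 0, 2, 3, 1], [2, 1, 3, 4, 5, 4, 3, 2, 1, 3, 4,
  0, 2, 3, 1], [2, 1, 3, 4, 5, 3, 2, 1, 3, 4, 0, 2, 3, 1], [2, 1, 3, 4, 5, 2, 1, 3, 4, 0, 2, 3, 1], [1, 3, 4, 5,
  4, 3, 2, 1, 3, 4, 0, 2, 3, 1], [1, 3, 4, 5, 3, 2, 1, 3, 4, 0, 2, 3, 1], [1, 3, 4, 5, 2, 1, 3, 4, 0, 2, 3, 1],
  [1, 3, 4, 5, 2, 3, 4, 0, 2, 3, 1], [2, 3, 4, 5, 4, 3, 2, 1, 3, 4, 0, 2, 3, 1], [2, 3, 4, 5, 3, 2, 1, 3, 4, 0,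
  2, 3, 1], [2, 3, 4, 5, 2, 1, 3, 4, 0, 2, 3, 1], [2, 3, 4, 5, 1, 3, 4, 0, 2, 3, 1], [3, 4, 5, 4, 3, 2, 1, 3, 4,
  0, 2, 3, 1], [3, 4, 5, 3, 2, 1, 3, 4, 0, 2, 3, 1], [3, 4, 5, 2, 1, 3, 4, 0, 2, 3, 1], [4, 5, 4, 3, 2, 1, 3, 4,
  0, 2, 3, 1], [4, 5, 3, 2, 1, 3, 4, 0, 2, 3, 1], [5, 4, 3, 2, 1, 3, 4, 0, 2, 3, 1], [4, 3, 2, 1, 3, 4, 0, 2, 3,
  1], [5, 3, 2, 1, 3, 4, 0, 2, 3, 1], [3, 2, 1, 3, 4, 0, 2, 3, 1], [4, 5, 2, 1, 3, 4, 0, 2, 3, 1], [5, 2, 1, 3,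
  4, 0, 2, 3, 1], [2, 1, 3, 4, 0, 2, 3, 1], [3, 4, 5, 1, 3, 4, 0, 2, 3, 1], [4, 5, 1, 3, 4, 0, 2, 3, 1], [5, 1,
  3, 4, 0, 2, 3, 1], [1, 3, 4, 0, 2, 3, 1], [3, 4, 5, 2, 3, 4, 0, 2, 3, 1], [4, 5, 2, 3, 4, 0, 2, 3, 1], [5, 2,
  3, 4, 0, 2, 3, 1], [2, 3, 4, 0, 2, 3, 1], [4, 5, 3, 4, 0, 2, 3, 1], [5, 3, 4, 0, 2, 3, 1], [3, 4, 0, 2, 3, 1],
  [5, 4, 0, 2, 3, 1], [4, 0, 2, 3, 1], [0, 2, 3, 1], [2, 3, 4, 5, 1, 3, 4, 2, 3, 1], [3, 4, 5, 1, 3, 4, 2, 3,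
  1], [4, 5, 1, 3, 4, 2, 3, 1], [5, 1, 3, 4, 2, 3, 1], [1, 3, 4, 2, 3, 1], [4, 5, 3, 4, 2, 3, 1], [5, 3, 4, 2,
  3, 1], [3, 4, 2, 3, 1], [5, 4, 2, 3, 1], [4, 2, 3, 1], [2, 3, 1], [5, 4, 3, 1], [4, 3, 1], [3, 1], [1], []]

/-- The roots that are sums over segments of the chain. -/
def segL : List (ℕ × ℕ × ℕ) :=
  [(0, 1, 56), (0, 2, 57), (0, 3, 58), (0, 4, 59), (0, 5, 60), (1, 2, 42), (1, 3, 43), (1, 4, 44), (1, 5, 45),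
  (2, 3, 39), (2, 4, 40), (2, 5, 41), (3, 4, 37), (3, 5, 38), (4, 5, 36)]

/-- Three times the weights, on the fundamental roots. -/
def wtL : List (List ℤ) :=
  [[4, 3, 5, 6, 4, 2], [1, 0, -1, 0, 1, -1], [1, 0, -1, 0, -2, -1], [1, 3, 5, 6, 4, 2], [-2, 0, -1, 0, 1, -1],
  [-2, 0, -1, 0, -2, -1], [1, 0, 2, 0, 1, 2], [-2, -3, -4, -6, -2, -1], [-2, -3, -4, -6, -5, -1], [-2, -3, -4,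
  -3, -2, -1], [-2, 0, -4, -3, -2, -1], [-2, -3, -4, -6, -5, -4], [1, 0, 2, 3, 1, 2], [1, 3, 2, 3, 1, 2], [1, 0,
  2, 0, -2, -1], [1, 0, 2, 3, 4, 2], [1, 3, 2, 3, 4, 2], [1, 0, 2, 0, 1, -1], [-2, 0, -1, -3, -2, -1], [1, 0,
  -1, -3, -2, -1], [1, 3, 2, 3, 1, -1], [-2, -3, -1, -3, -2, -1], [1, -3, -1, -3, -2, -1], [1, 0, 2, 3, 1, -1],
  [-2, 0, -1, 0, 1, 2], [1, 0, -1, 0, 1, 2], [1, 3, 2, 6, 4, 2]]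

/-- The reflections on the weights. -/
def wtRefl : List (List ℕ) :=
  [[3, 4, 5, 0, 1, 2, 6, 7, 8, 9, 10, 11, 12, 13, 14, 15, 16, 17, 19, 18, 20, 22, 21, 23, 25, 24, 26], [0, 1, 2,
  3, 4, 5, 6, 7, 8, 10, 9, 11, 13, 12, 14, 16, 15, 17, 21, 22, 23, 18, 19, 20, 24, 25, 26], [0, 17, 14, 26, 4,
  5, 25, 7, 8, 21, 18, 11, 12, 13, 2, 15, 16, 1, 10, 19, 20, 9, 22, 23, 24, 6, 3], [0, 1, 19, 3, 4, 18, 12, 9,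
  8, 7, 10, 11, 6, 13, 14, 15, 26, 23, 5, 2, 20, 21, 22, 17, 24, 25, 16], [0, 2, 1, 3, 5, 4, 6, 8, 7, 9, 10, 11,
  15, 16, 17, 12, 13, 14, 18, 19, 20, 21, 22, 23, 24, 25, 26], [0, 25, 2, 3, 24, 5, 17, 7, 11, 9, 10, 8, 23, 20,
  14, 15, 16, 6, 18, 19, 13, 21, 22, 12, 4, 1, 26]]

/-- The word moving the normal vector of order five to the chosen one. -/
def nfW : List ℕ :=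
  [4, 5, 4, 2, 3, 0, 2]

/-- The normal vector of order five. -/
def nfV : List ℤ :=
  [0, 4, 4, 4, 4, 4]

/-- Words moving the partners to the chosen vector. -/
def partW : List (ℕ × ℕ × ℕ × List ℕ) :=
  [
    (1, 1, 1, [2, 3, 4, 5, 1, 3, 4, 1, 3, 2]),
    (1, 1, 2, [3, 4, 2, 3, 0, 2, 1, 3, 4, 0, 2, 0]),
    (1, 2, 1, [2, 1, 3, 4, 5, 2, 1, 3, 4, 1, 3, 2, 0]),
    (1, 3, 3, [3, 2, 1, 3, 4, 5, 1, 3, 4, 1, 3, 2]),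
    (1, 4, 2, [1, 3, 4, 2, 3, 0, 2, 1, 3, 4, 5, 0, 2]),
    (1, 4, 3, [2, 3, 4, 5, 1, 3, 4, 1, 3, 2, 0]),
    (2, 1, 1, [3, 4, 2, 3, 0, 2, 1, 3, 4, 5, 0, 2, 0]),
    (2, 2, 2, [4, 2, 3, 0, 2, 1, 3, 4, 5, 0, 2]),
    (2, 2, 4, [2, 3, 4, 5, 2, 1, 3, 4, 1, 3, 2]),
    (2, 3, 1, [4, 2, 3, 0, 2, 1, 3, 4, 0, 2]),
    (2, 3, 4, [3, 2, 1, 3, 4, 5, 2, 1, 3, 4, 1, 3, 2, 0]),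
    (2, 4, 2, [1, 3, 4, 2, 3, 0, 2, 1, 3, 4, 0, 2]),
    (3, 1, 3, [1, 3, 4, 2, 3, 0, 2, 1, 3, 4, 5, 0, 2, 0]),
    (3, 2, 1, [2, 1, 3, 4, 5, 2, 1, 3, 4, 1, 3, 2]),
    (3, 2, 4, [4, 2, 3, 0, 2, 1, 3, 4, 5, 0, 2, 0]),
    (3, 3, 1, [3, 2, 1, 3, 4, 5, 1, 3, 4, 1, 3, 2, 0]),
    (3, 3, 3, [4, 2, 3, 0, 2, 1, 3, 4, 0, 2, 0]),
    (3, 4, 4, [3, 4, 2, 3, 0, 2, 1, 3, 4, 0, 2]),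
    (4, 1, 2, [2, 1, 3, 4, 5, 1, 3, 4, 1, 3, 2]),
    (4, 1, 3, [1, 3, 4, 2, 3, 0, 2, 1, 3, 4, 0, 2, 0]),
    (4, 2, 2, [2, 3, 4, 5, 2, 1, 3, 4, 1, 3, 2, 0]),
    (4, 3, 4, [3, 2, 1, 3, 4, 5, 2, 1, 3, 4, 1, 3, 2]),
    (4, 4, 3, [3, 4, 2, 3, 0, 2, 1, 3, 4, 5, 0, 2]),
    (4, 4, 4, [2, 1, 3, 4, 5, 1, 3, 4, 1, 3, 2, 0])]

end Cfsg.Lib.Chev.E6Alt
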