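import Cfsg.Agent.Lib.PGroup.FrattiniStab
import Cfsg.Agent.Lib.Linear.AltDeg.Minimal
import Cfsg.Agent.Lib.Linear.AltDeg.ClassTwo
import Cfsg.Agent.S2653

/-!
Two commuting elements of order five in a minimal cover of the alternating group of degree twelve.
-/

set_option autoImplicit false
set_option maxRecDepth 100000

namespace Cfsg.Lib.Chev.E6Alt

open Equiv

/-- The alternating group of degree twelve. -/
abbrev A12 := ↥(alternatingGroup (Fin 12))

/-- A linear representation whose kernel is inside the kernel of the section. -/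
theorem linear_section {F : Type*} [Field F] [Fintype F] (p : ℕ) [Fact p.Prime] [CharP F p] {H : Type*} [Group H]
    {r : ℕ} (π : H →* ↥(alternatingGroup (Fin r))) (hπ : Function.Surjective π) {d : ℕ} (ρ : H →* GL (Fin d) F)
    (hk : ρ.ker ≤ π.ker) (hr : 9 ≤ r := by norm_num) : r - 1 - (if p ∣ r then 1 else 0) ≤ d := by
  let K : Subgroup ρ.range := (π.ker).map ρ.rangeRestrict
  haveI : K.Normal := (inferInstance : π.ker.Normal).map _ ρ.rangeRestrict_surjective
  have hKc : K.comap ρ.rangeRestrict = π.ker := by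
    rw [Subgroup.comap_map_eq, MonoidHom.ker_rangeRestrict, sup_of_le_left hk]
  let e1 : H ⧸ π.ker ≃* ρ.range ⧸ K :=
    MulEquiv.ofBijective (QuotientGroup.map π.ker K ρ.rangeRestrict hKc.ge)
      ⟨(MonoidHom.ker_eq_bot_iff _).1 (eq_bot_iff.2 fun x hx => by
        induction x using QuotientGroup.induction_on with
        | H x =>
          rw [MonoidHom.mem_ker, QuotientGroup.map_mk, QuotientGroup.eq_one_iff, ← Subgroup.mem_comap, hKc] at hx
          exact Subgroup.mem_bot.2 ((QuotientGroup.eq_one_iff x).2 hx)), fun y => by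
        induction y using QuotientGroup.induction_on with
        | H y =>
          obtain ⟨x, rfl⟩ := ρ.rangeRestrict_surjective y
          exact ⟨x, rfl⟩⟩
  exact Cfsg.Agent.S2653.result p d r ρ.range K
    ⟨e1.symm.trans (QuotientGroup.quotientKerEquivOfSurjective π hπ)⟩ hr

/-- A subgroup minimal with image everything. -/
theorem exists_minimal_cover {H : Type*} [Group H] [Finite H] {A : Type*} [Group A] (π : H →* A)
    (hπ : Function.Surjective π) :
    ∃ L : Subgroup H, L.map π = ⊤ ∧ ∀ M : Subgroup L, M.map (π.comp L.subtype) = ⊤ → M = ⊤ := by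
  classical
  have hex : ∃ n, ∃ L : Subgroup H, L.map π = ⊤ ∧ Nat.card L = n :=
    ⟨_, ⊤, Subgroup.map_top_of_surjective π hπ, rfl⟩
  obtain ⟨L, hL, hn⟩ := Nat.find_spec hex
  refine ⟨L, hL, fun M hM => Subgroup.eq_top_of_le_card M ?_⟩
  rw [hn, ← Subgroup.card_map_of_injective L.subtype_injective]
  exact Nat.find_min' hex ⟨M.map L.subtype, by rw [Subgroup.map_map]; exact hM, rfl⟩

variable {H : Type*} [Group H] [Finite H] (π : H →* A12) (hπ : Function.Surjective π)
  (hmin : ∀ M : Subgroup H, M.map π = ⊤ → M = ⊤)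

include hπ hmin

/-- A five-subgroup of the kernel is central if five-subgroups have Frattini quotient of rank at most seven. -/
theorem five_central (hrank : ∀ P : Subgroup H, IsPGroup 5 P → (frattini ↥P).index ≤ 5 ^ 7)
    {Q : Subgroup H} (hQ : IsPGroup 5 Q) (hker : Q ≤ π.ker) {z : H} (hz : z ∈ Q) (h : H) : h * z = z * h := by
  classical
  haveI : Fact (Nat.Prime 5) := ⟨by norm_num⟩
  obtain ⟨S, hS⟩ := (hQ.comap_of_injective π.ker.subtype π.ker.subtype_injective).exists_le_sylow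
  let P : Subgroup H := (S : Subgroup π.ker).map π.ker.subtype
  have hzP : z ∈ P := ⟨⟨z, hker hz⟩, hS (show (⟨z, hker hz⟩ : π.ker) ∈ Q.comap π.ker.subtype from hz), rfl⟩
  have hP : IsPGroup 5 P := S.2.map _
  have hPn : P.Normal := by
    rw [← Subgroup.normalizer_eq_top_iff]
    refine hmin _ ?_
    have hfr := Sylow.normalizer_sup_eq_top S
    have h1 : (Subgroup.normalizer (P : Set H) ⊔ π.ker).map π = ⊤ := by
      rw [hfr, Subgroup.map_top_of_surjective π hπ]
    rwa [Subgroup.map_sup, (π.ker.map_eq_bot_iff).2 le_rfl, sup_bot_eq] at h1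
  haveI := hPn
  haveI hCn : (Subgroup.centralizer (P : Set H)).Normal := inferInstance
  have hC : Subgroup.centralizer (P : Set H) = ⊤ := by
    by_contra hne
    have hle : Subgroup.centralizer (P : Set H) ≤ π.ker := by
      by_contra h'
      exact hne (Cfsg.Lib.Linear.AltDeg.normal_top_of hπ hmin (by norm_num) _ h')
    let Φ : Subgroup H := (frattini ↥P).map P.subtype
    haveI hchar : (frattini ↥P).Characteristic := inferInstance
    haveI : Φ.Normal := ConjAct.normal_of_characteristic_of_normal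
    let q : H →* H ⧸ Φ := QuotientGroup.mk' Φ
    let Qb : Subgroup (H ⧸ Φ) := P.map q
    haveI : Qb.Normal := hPn.map q (QuotientGroup.mk'_surjective Φ)
    have hel := Cfsg.Lib.PGroup.isElementaryAbelian_quotient_frattini (p := 5) hP
    have hc : ∀ a b : Qb, a * b = b * a := by
      rintro ⟨_, a, ha, rfl⟩ ⟨_, b, hb, rfl⟩
      refine Subtype.ext ?_
      show q a * q b = q b * q a
      rw [← map_mul, ← map_mul]
      refine (QuotientGroup.eq (s := Φ)).2 ?_
      refine ⟨(⟨a, ha⟩ * ⟨b, hb⟩ : P)⁻¹ * (⟨b, hb⟩ * ⟨a, ha⟩), ?_, rfl⟩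
      refine Cfsg.Lib.PGroup.commutator_le_frattini hP ?_
      rw [show ((⟨a, ha⟩ * ⟨b, hb⟩ : P))⁻¹ * (⟨b, hb⟩ * ⟨a, ha⟩) =
        (⟨b, hb⟩ : P)⁻¹ * (⟨a, ha⟩ : P)⁻¹ * (⟨b, hb⟩ : P)⁻¹⁻¹ * (⟨a, ha⟩ : P)⁻¹⁻¹ by group]
      exact Subgroup.commutator_mem_commutator (Subgroup.mem_top _) (Subgroup.mem_top _)
    have he : ∀ a : Qb, a ^ 5 = 1 := by
      rintro ⟨_, a, ha, rfl⟩
      refine Subtype.ext ?_
      show q a ^ 5 = 1
      rw [← map_pow]
      refine (QuotientGroup.eq_one_iff _).2 ⟨(⟨a, ha⟩ : P) ^ 5, ?_, rfl⟩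
      exact Cfsg.Lib.PGroup.pow_mem_frattini hP _
    obtain ⟨d, ρ, hcard, hρ⟩ := Cfsg.Lib.Linear.AltDeg.exists_linear_action 5 q Qb hc he
    have hd : d ≤ 7 := by
      have hQb : Nat.card Qb = (frattini ↥P).index := by
        have hk : (q.subgroupMap P).ker = frattini ↥P := by
          ext x
          rw [MonoidHom.mem_ker]
          constructor
          · intro hx
            obtain ⟨y, hy, e⟩ := (QuotientGroup.eq_one_iff _).1 (congrArg Subtype.val hx)
            rwa [← Subtype.ext e]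
          · intro hx
            exact Subtype.ext ((QuotientGroup.eq_one_iff _).2 ⟨x, hx, rfl⟩)
        rw [← hk, Subgroup.index_ker, MonoidHom.range_eq_top.2 (q.subgroupMap_surjective P), Subgroup.card_top]
      have := hrank P hP
      rw [← hQb, hcard] at this
      exact (Nat.pow_le_pow_iff_right (by norm_num)).1 this
    by_cases hρk : ρ.ker ≤ π.ker
    · -- a linear section of small degree
      have := linear_section 5 π hπ ρ hρk
      norm_num at this
      omega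
    · -- a Burnside kernel
      have htop : ρ.ker = ⊤ := Cfsg.Lib.Linear.AltDeg.normal_top_of hπ hmin (by norm_num) _ hρk
      let c : H →* MulAut ↥P := MulAut.conjNormal
      have hst : ∀ g, c g ∈ Cfsg.Lib.PGroup.frattiniStab ↥P := fun g x => by
        have h1 := hρ g (MonoidHom.mem_ker.1 (htop ▸ Subgroup.mem_top g)) (q x) ⟨x, x.2, rfl⟩
        rw [← map_inv, ← map_mul, ← map_mul] at h1
        obtain ⟨y, hy, e⟩ := (QuotientGroup.eq (s := Φ)).1 h1.symm
        have e2 : x⁻¹ * c g x = y := Subtype.ext (by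
          rw [Subgroup.coe_mul, Subgroup.coe_inv, MulAut.conjNormal_apply]
          exact e.symm)
        rw [e2]; exact hy
      haveI : Fact (Nat.Prime 11) := ⟨by norm_num⟩
      obtain ⟨x, hx⟩ := exists_prime_orderOf_dvd_card' (G := A12) 11 (by
        rw [nat_card_alternatingGroup, Nat.card_eq_fintype_card, Fintype.card_fin]
        decide)
      obtain ⟨g, rfl⟩ := hπ x
      obtain ⟨k, hk⟩ := Cfsg.Lib.PGroup.isPGroup_frattiniStab hP ⟨c g, hst g⟩
      have hk' : g ^ 5 ^ k ∈ Subgroup.centralizer (P : Set H) := by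
        rw [Subgroup.mem_centralizer_iff]
        intro p hp
        have e := congrArg (fun f : MulAut ↥P => ((f ⟨p, hp⟩ : P) : H))
          (show c (g ^ 5 ^ k) = 1 by rw [map_pow]; exact congrArg Subtype.val hk)
        simp only [MulAut.one_apply] at e
        rw [MulAut.conjNormal_apply] at e
        exact (mul_inv_eq_iff_eq_mul.1 e).symm
      have h1 : π g ^ 5 ^ k = 1 := by rw [← map_pow]; exact hle hk'
      have h2 := orderOf_dvd_of_pow_eq_one h1
      rw [hx] at h2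
      exact absurd (Nat.Prime.dvd_of_dvd_pow (by norm_num : Nat.Prime 11) h2) (by norm_num)
  have := Subgroup.mem_centralizer_iff.1 (hC ▸ Subgroup.mem_top h : h ∈ Subgroup.centralizer (P : Set H)) z hzP
  exact this.symm

omit hmin

/-- A lift of five-power order inside a subgroup. -/
theorem exists_five_lift (C : Subgroup H) {A : A12} (hA : orderOf A = 5) (hC : A ∈ C.map π) :
    ∃ a ∈ C, π a = A ∧ ∃ k, a ^ 5 ^ k = 1 := by
  obtain ⟨a0, ha0, rfl⟩ := hC
  obtain ⟨k, m, hm, hn⟩ := Nat.exists_eq_pow_mul_and_not_dvd (orderOf_pos a0).ne' 5 (by norm_num)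
  have hc : Nat.Coprime m (orderOf (π a0)) := by
    rw [hA]
    exact ((Nat.Prime.coprime_iff_not_dvd (by norm_num)).2 hm).symm
  obtain ⟨j, hj⟩ := exists_pow_eq_self_of_coprime hc
  refine ⟨(a0 ^ m) ^ j, pow_mem (pow_mem ha0 m) j, by rw [map_pow, map_pow, hj], k, ?_⟩
  rw [← pow_mul, ← pow_mul, show m * (j * 5 ^ k) = 5 ^ k * m * j by ring, pow_mul, ← hn, pow_orderOf_eq_one,
    one_pow]

/-- Lifts normalising a five-subgroup around a given lift. -/
theorem exists_norm_lift (C : Subgroup H) {a : H} (haC : a ∈ C) {k : ℕ} (hak : a ^ 5 ^ k = 1) :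
    ∃ P : Subgroup H, IsPGroup 5 P ∧ a ∈ P ∧ ∀ u ∈ C.map π, u * π a * u⁻¹ ∈ Subgroup.zpowers (π a) →
      ∃ y ∈ C, (∃ i ∈ Subgroup.zpowers (π a), π y = u * i) ∧ ∀ p ∈ P, y * p * y⁻¹ ∈ P := by
  classical
  haveI : Fact (Nat.Prime 5) := ⟨by norm_num⟩
  let Z := Subgroup.zpowers (π a)
  let M : Subgroup H := C ⊓ (Subgroup.normalizer (Z : Set A12)).comap π
  let K : Subgroup M := (Z.comap π).subgroupOf M
  have hKn : K.Normal := by
    refine ⟨fun g hg y => ?_⟩
    show π ((y * g * y⁻¹ : M) : H) ∈ Z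
    push_cast
    rw [map_mul, map_mul, map_inv]
    exact (Subgroup.mem_normalizer_iff.mp y.2.2 _).mp hg
  have haM : a ∈ M := ⟨haC, show π a ∈ Subgroup.normalizer (Z : Set A12) from
    Subgroup.le_normalizer (Subgroup.mem_zpowers _)⟩
  let a' : K := ⟨⟨a, haM⟩, show π a ∈ Z from Subgroup.mem_zpowers _⟩
  have hPG : IsPGroup 5 (Subgroup.zpowers a') := by
    obtain ⟨j, -, hj⟩ := (Nat.dvd_prime_pow (by norm_num : Nat.Prime 5)).1 (orderOf_dvd_of_pow_eq_one
      (show a' ^ 5 ^ k = 1 from Subtype.ext (Subtype.ext (by push_cast; exact hak))))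
    exact IsPGroup.of_card (n := j) (by rw [Nat.card_zpowers, hj])
  obtain ⟨S, hS⟩ := hPG.exists_le_sylow
  refine ⟨((S : Subgroup K).map K.subtype).map M.subtype, (S.2.map _).map _,
    ⟨_, ⟨a', hS (Subgroup.mem_zpowers a'), rfl⟩, rfl⟩, ?_⟩
  rintro _ ⟨g, hg, rfl⟩ hn
  have hgN : π g ∈ Subgroup.normalizer (Z : Set A12) := by
    have hle : Subgroup.map (MulAut.conj (π g)).toMonoidHom Z ≤ Z := by
      rw [MonoidHom.map_zpowers, Subgroup.zpowers_le]
      exact hn
    have heq : Subgroup.map (MulAut.conj (π g)).toMonoidHom Z = Z := by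
      refine Subgroup.eq_of_le_of_card_ge hle (le_of_eq ?_)
      rw [Subgroup.card_map_of_injective (MulAut.conj (π g)).injective]
    rw [Subgroup.mem_normalizer_iff]
    intro x
    constructor
    · intro hx; rw [← heq]; exact ⟨x, hx, rfl⟩
    · intro hx
      rw [← heq] at hx
      obtain ⟨y, hy, e⟩ := hx
      rwa [← (MulAut.conj (π g)).injective (show MulAut.conj (π g) y = MulAut.conj (π g) x from e)]
  have hfr := Sylow.normalizer_sup_eq_top S
  obtain ⟨y, hy, x, hx, hyx⟩ := Subgroup.mem_sup_of_normal_right.mp (hfr.ge (Subgroup.mem_top (⟨g, hg, hgN⟩ : M)))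
  refine ⟨(y : H), y.2.1, ⟨(π (x : H))⁻¹, inv_mem hx, ?_⟩, ?_⟩
  · rw [eq_mul_inv_iff_mul_eq, ← map_mul, ← Subgroup.coe_mul, hyx]
  · rintro _ ⟨q, hq, rfl⟩
    exact ⟨y * q * y⁻¹, (Subgroup.mem_normalizer_iff.mp hy q).mp hq, by simp⟩

include hmin

/-- The image of the centraliser of a lift contains the commutators of the centraliser. -/
theorem comm_mem_cent (hrank : ∀ P : Subgroup H, IsPGroup 5 P → (frattini ↥P).index ≤ 5 ^ 7)
    {a : H} {k : ℕ} (hak : a ^ 5 ^ k = 1) {u v : A12} (hu : u * π a = π a * u) (hv : v * π a = π a * v) :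
    u * v * u⁻¹ * v⁻¹ ∈ (Subgroup.centralizer {a}).map π := by
  obtain ⟨P, hP, haP, hlift⟩ := exists_norm_lift π hπ ⊤ (Subgroup.mem_top a) hak
  have hl : ∀ w : A12, w * π a = π a * w → ∃ y i, i ∈ Subgroup.zpowers (π a) ∧ π y = w * i ∧
      ∃ z : H, (∀ h, h * z = z * h) ∧ y * a * y⁻¹ = z * a := by
    intro w hw
    obtain ⟨y, -, ⟨i, hi, hy⟩, hn⟩ := hlift w ⟨(hπ w).choose, Subgroup.mem_top _, (hπ w).choose_spec⟩
      (by rw [hw, mul_inv_cancel_right]; exact Subgroup.mem_zpowers _)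
    refine ⟨y, i, hi, hy, y * a * y⁻¹ * a⁻¹, ?_, by group⟩
    have hz : y * a * y⁻¹ * a⁻¹ ∈ P ⊓ π.ker := Subgroup.mem_inf.2 ⟨mul_mem (hn a haP) (inv_mem haP), by
      obtain ⟨j, rfl⟩ := Subgroup.mem_zpowers_iff.1 hi
      rw [MonoidHom.mem_ker, map_mul, map_mul, map_mul, map_inv, map_inv, hy,
        show w * π a ^ j * π a * (w * π a ^ j)⁻¹ = w * π a * w⁻¹ by group, hw, mul_inv_cancel_right,
        mul_inv_cancel]⟩
    exact five_central π hπ hmin hrank (hP.to_le (inf_le_left)) inf_le_right hz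
  obtain ⟨U, i, hi, hU, z, hz, hUa⟩ := hl u hu
  obtain ⟨V, j, hj, hV, z', hz', hVa⟩ := hl v hv
  refine ⟨U * V * U⁻¹ * V⁻¹, Subgroup.mem_centralizer_singleton_iff.2 ?_, ?_⟩
  · have hUi : U⁻¹ * a * U = z⁻¹ * a := by
      have hUa' : U * a = z * a * U := by rw [← hUa]; group
      calc U⁻¹ * a * U = U⁻¹ * (z⁻¹ * (z * a * U)) := by group
        _ = U⁻¹ * (z⁻¹ * (U * a)) := by rw [hUa']
        _ = z⁻¹ * a := by rw [← mul_assoc z⁻¹, ← (Commute.inv_right (hz U)).eq]; group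
    have hVi : V⁻¹ * a * V = z'⁻¹ * a := by
      have hVa' : V * a = z' * a * V := by rw [← hVa]; group
      calc V⁻¹ * a * V = V⁻¹ * (z'⁻¹ * (z' * a * V)) := by group
        _ = V⁻¹ * (z'⁻¹ * (V * a)) := by rw [hVa']
        _ = z'⁻¹ * a := by rw [← mul_assoc z'⁻¹, ← (Commute.inv_right (hz' V)).eq]; group
    have c1 : ∀ g : H, g * z⁻¹ = z⁻¹ * g := fun g => (Commute.inv_right (hz g)).eq
    have c2 : ∀ g : H, g * z'⁻¹ = z'⁻¹ * g := fun g => (Commute.inv_right (hz' g)).eq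
    have : U * V * U⁻¹ * V⁻¹ * a * (U * V * U⁻¹ * V⁻¹)⁻¹ = a := by
      calc U * V * U⁻¹ * V⁻¹ * a * (U * V * U⁻¹ * V⁻¹)⁻¹ = U * (V * (U⁻¹ * (V⁻¹ * a * V) * U) * V⁻¹) * U⁻¹ := by
            group
        _ = U * (V * (z'⁻¹ * (U⁻¹ * a * U)) * V⁻¹) * U⁻¹ := by rw [hVi, ← mul_assoc U⁻¹, c2 U⁻¹]; group
        _ = z'⁻¹ * z⁻¹ * (U * (V * a * V⁻¹) * U⁻¹) := by
            rw [hUi, ← mul_assoc V, c2 V, ← mul_assoc _ z⁻¹ a, mul_assoc z'⁻¹ V, c1 V]
            rw [show U * (z'⁻¹ * (z⁻¹ * V) * a * V⁻¹) * U⁻¹ = (U * z'⁻¹) * z⁻¹ * (V * a * V⁻¹) * U⁻¹ by group, c2 U,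
              mul_assoc z'⁻¹ U, c1 U]
            group
        _ = z'⁻¹ * z⁻¹ * (z' * (z * a)) := by
            rw [hVa, ← mul_assoc U, hz' U, mul_assoc z', mul_assoc z', hUa]
        _ = a := by rw [mul_assoc z'⁻¹, ← mul_assoc z⁻¹ z', ← (Commute.inv_left (show Commute z z' from hz' z)).eq.symm]; group
    exact mul_inv_eq_iff_eq_mul.1 this
  · obtain ⟨m, rfl⟩ := Subgroup.mem_zpowers_iff.1 hi
    obtain ⟨n, rfl⟩ := Subgroup.mem_zpowers_iff.1 hj
    rw [map_mul, map_mul, map_mul, map_inv, map_inv, hU, hV]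
    have hu' : Commute u (π a ^ n) := Commute.zpow_right hu n
    have hv' : Commute v (π a ^ m) := Commute.zpow_right hv m
    have hmn : Commute (π a ^ m) (π a ^ n) := Commute.zpow_zpow (Commute.refl _) m n
    simp only [mul_inv_rev, mul_assoc]
    rw [← mul_assoc (π a ^ m) v, ← hv'.eq, mul_assoc, ← mul_assoc (π a ^ m) (π a ^ n), hmn.eq, mul_assoc,
      ← mul_assoc (π a ^ m) (π a ^ m)⁻¹, mul_inv_cancel, one_mul, ← mul_assoc (π a ^ n) u⁻¹,
      ← hu'.inv_left.eq, mul_assoc, ← mul_assoc (π a ^ n) (π a ^ n)⁻¹, mul_inv_cancel, one_mul]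

/-- An element squaring a lift exactly, after a central correction. -/
theorem exists_square (hrank : ∀ P : Subgroup H, IsPGroup 5 P → (frattini ↥P).index ≤ 5 ^ 7)
    (C : Subgroup H) {a : H} (haC : a ∈ C) {k : ℕ} (hak : a ^ 5 ^ k = 1) (hA : orderOf (π a) = 5) {s : A12}
    (hs : s ∈ C.map π) (hsa : s * π a * s⁻¹ = π a ^ 2) :
    ∃ σ ∈ C, ∃ a' ∈ C, (∃ z, (∀ h, h * z = z * h) ∧ a' = z * a) ∧ π a' = π a ∧ orderOf a' = 5 ∧
      σ * a' * σ⁻¹ = a' ^ 2 := by
  obtain ⟨P, hP, haP, hlift⟩ := exists_norm_lift π hπ C haC hak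
  obtain ⟨σ, hσ, ⟨i, hi, hπσ⟩, hn⟩ := hlift s hs (by rw [hsa]; exact pow_mem (Subgroup.mem_zpowers _) 2)
  obtain ⟨j, rfl⟩ := Subgroup.mem_zpowers_iff.1 hi
  have hπc : π (σ * a * σ⁻¹) = π a ^ 2 := by
    rw [map_mul, map_mul, map_inv, hπσ, show s * π a ^ j * π a * (s * π a ^ j)⁻¹ = s * π a * s⁻¹ by group, hsa]
  obtain ⟨z, hze⟩ : ∃ z, z = σ * a * σ⁻¹ * (a ^ 2)⁻¹ := ⟨_, rfl⟩
  have hz : ∀ h, h * z = z * h := five_central π hπ hmin hrank (Q := P ⊓ π.ker) (hP.to_le inf_le_left)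
    inf_le_right (z := z) (Subgroup.mem_inf.2 ⟨hze ▸ mul_mem (hn a haP) (inv_mem (pow_mem haP 2)), by
      rw [MonoidHom.mem_ker, hze, map_mul, hπc, map_inv, map_pow, mul_inv_cancel]⟩)
  have hconj : σ * a * σ⁻¹ = z * a ^ 2 := by rw [hze]; group
  have hzC : z ∈ C := hze ▸ mul_mem (mul_mem (mul_mem hσ haC) (inv_mem hσ)) (inv_mem (pow_mem haC 2))
  have hσz : σ * z * σ⁻¹ = z := by rw [hz σ, mul_inv_cancel_right]
  have hπz : π z = 1 := by rw [hze, map_mul, hπc, map_inv, map_pow, mul_inv_cancel]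
  have ha' : σ * (z * a) * σ⁻¹ = (z * a) ^ 2 := by
    rw [(show Commute z a from (hz a).symm).mul_pow, show σ * (z * a) * σ⁻¹ = (σ * z * σ⁻¹) * (σ * a * σ⁻¹) by group,
      hσz, hconj, ← mul_assoc, ← pow_two]
  refine ⟨σ, hσ, z * a, mul_mem hzC haC, ⟨z, hz, rfl⟩, by rw [map_mul, hπz, one_mul], ?_, ha'⟩
  haveI : Fact (Nat.Prime 5) := ⟨by norm_num⟩
  refine orderOf_eq_prime ?_ fun h => ?_
  · have h5 : (z * a) ^ 5 ∈ Subgroup.zpowers (z * a) ⊓ π.ker := Subgroup.mem_inf.2 ⟨pow_mem (Subgroup.mem_zpowers _) 5, by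
      rw [MonoidHom.mem_ker, map_pow, map_mul, hπz, one_mul, ← hA, pow_orderOf_eq_one]⟩
    have hzk : ∃ n, z ^ 5 ^ n = 1 := by
      have hzP : z ∈ P := hze ▸ mul_mem (hn a haP) (inv_mem (pow_mem haP 2))
      obtain ⟨n, hn'⟩ := hP ⟨z, hzP⟩
      exact ⟨n, congrArg Subtype.val hn'⟩
    obtain ⟨n, hzn⟩ := hzk
    have hpg : IsPGroup 5 (Subgroup.zpowers (z * a)) := by
      obtain ⟨j, -, hj⟩ := (Nat.dvd_prime_pow (by norm_num : Nat.Prime 5)).1 (orderOf_dvd_of_pow_eq_one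
        (show (z * a) ^ 5 ^ (n + k) = 1 by
          rw [(show Commute z a from (hz a).symm).mul_pow, pow_add, pow_mul, hzn, one_pow, one_mul,
            mul_comm, pow_mul, hak, one_pow]))
      exact IsPGroup.of_card (n := j) (by rw [Nat.card_zpowers, hj])
    have hc := five_central π hπ hmin hrank (hpg.to_le inf_le_left) inf_le_right h5 σ
    have he : σ * (z * a) ^ 5 * σ⁻¹ = ((z * a) ^ 2) ^ 5 := by rw [← conj_pow, ha']
    rw [hc, mul_inv_cancel_right, ← pow_mul, mul_comm, pow_mul, pow_two] at he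
    exact mul_eq_left.1 he.symm
  · have := congrArg π h
    rw [map_mul, hπz, one_mul, map_one] at this
    rw [this, orderOf_one] at hA
    exact absurd hA (by norm_num)

omit hπ hmin

/-- The three-cycle moving the last two points and `x`. -/
def tri (x : Fin 12) : Perm (Fin 12) := swap 10 11 * swap 11 x

theorem sign_mem : ∀ x : Fin 12, x ≠ 10 → x ≠ 11 → Perm.sign (tri x) = 1 := by decide +kernel

theorem gen_twelve {M : Subgroup A12}
    (h : ∀ (x : Fin 12) (h1 : x ≠ 10) (h2 : x ≠ 11), (⟨tri x, Perm.mem_alternatingGroup.2 (sign_mem x h1 h2)⟩ : A12) ∈ M) :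
    M = ⊤ := by
  let P : Subgroup (Perm (Fin 12)) := M.map (alternatingGroup (Fin 12)).subtype
  have h1 : ∀ x, x ≠ 10 → swap (10 : Fin 12) 11 * swap 10 x ∈ P := by
    intro x hx
    by_cases hx' : x = 11
    · subst hx'; rw [swap_mul_self]; exact one_mem _
    · have e : ∀ y : Fin 12, y ≠ 10 → y ≠ 11 → swap (10 : Fin 12) 11 * swap 10 y = tri y * tri y := by decide +kernel
      rw [e x hx hx']
      exact mul_mem ⟨_, h x hx hx', rfl⟩ ⟨_, h x hx hx', rfl⟩
  have h2 : ∀ x y, x ≠ y → swap (10 : Fin 12) 11 * swap x y ∈ P ∧ swap x y * swap (10 : Fin 12) 11 ∈ P := by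
    have key : ∀ x y, x ≠ y → swap (10 : Fin 12) 11 * swap x y ∈ P := by
      intro x y hxy
      by_cases hx : x = 10
      · subst hx; exact h1 y (Ne.symm hxy)
      by_cases hy : y = 10
      · subst hy; rw [swap_comm x 10]; exact h1 x hx
      have e : ∀ a b : Fin 12, a ≠ b → a ≠ 10 → b ≠ 10 →
          swap (10 : Fin 12) 11 * swap a b =
            swap (10 : Fin 12) 11 * swap 10 a * (swap (10 : Fin 12) 11 * swap 10 b)⁻¹ * (swap (10 : Fin 12) 11 * swap 10 a) := by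
        decide +kernel
      rw [e x y hxy hx hy]
      exact mul_mem (mul_mem (h1 x hx) (inv_mem (h1 y hy))) (h1 x hx)
    refine fun x y hxy => ⟨key x y hxy, ?_⟩
    have := inv_mem (key x y hxy)
    rwa [mul_inv_rev, swap_inv, swap_inv] at this
  have h3 : ∀ p : Perm (Fin 12), (Perm.sign p = 1 → p ∈ P) ∧ (Perm.sign p = -1 → swap (10 : Fin 12) 11 * p ∈ P) := by
    intro p
    induction p using Perm.swap_induction_on with
    | one => exact ⟨fun _ => one_mem _, fun h => absurd h (by simp)⟩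
    | swap_mul f x y hxy ih =>
      rw [Perm.sign_mul, Perm.sign_swap hxy]
      refine ⟨fun hs => ?_, fun hs => ?_⟩
      · have := mul_mem (h2 x y hxy).2 (ih.2 (by rw [← neg_eq_iff_eq_neg]; simpa using hs))
        rwa [mul_assoc, swap_mul_self_mul] at this
      · rw [← mul_assoc]
        exact mul_mem (h2 x y hxy).1 (ih.1 (by simpa using hs))
  refine eq_top_iff.2 fun g _ => ?_
  obtain ⟨g', hg', e⟩ := (h3 g.1).1 (Perm.mem_alternatingGroup.1 g.2)
  rwa [← Subtype.ext e]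

/-- The first five-cycle. -/
def cA5 : Perm (Fin 12) := swap 0 1 * swap 1 2 * swap 2 3 * swap 3 4

/-- The second five-cycle. -/
def cB5 : Perm (Fin 12) := swap 5 6 * swap 6 7 * swap 7 8 * swap 8 9

theorem cA5_even : Perm.sign cA5 = 1 ∧ Perm.sign cB5 = 1 := by decide +kernel

/-- Permutations as elements of the alternating group, if even. -/
def ev (p : Perm (Fin 12)) : A12 := if h : Perm.sign p = 1 then ⟨p, Perm.mem_alternatingGroup.2 h⟩ else 1

/-- The first element with commutator the squaring element of a side. -/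
def uS (b : Fin 12) : A12 := ev (swap (b + 2) (b + 3) * swap 10 11)

/-- The second element with commutator the squaring element of a side. -/
def vS (b : Fin 12) : A12 := ev (swap (b + 1) 10 * swap 10 (b + 4) * swap (b + 4) 11 * swap 11 (b + 2))

/-- The first element with commutator a three-cycle. -/
def uT (b : Fin 12) (j : Fin 5) : A12 := ev (swap 10 11 * swap 11 (b + Fin.ofNat 12 (((j : ℕ) + 1) % 5)))

/-- The second element with commutator a three-cycle. -/
def vT (b : Fin 12) (j : Fin 5) : A12 :=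
  ev (swap 10 (b + Fin.ofNat 12 (j : ℕ)) *
    swap (b + Fin.ofNat 12 (j : ℕ)) (b + Fin.ofNat 12 (((j : ℕ) + 2) % 5)))

/-- The facts of a side: a squaring commutator and the three-cycles. -/
def SideOK (b : Fin 12) (c c' : A12) : Prop :=
  uS b * c' = c' * uS b ∧ vS b * c' = c' * vS b ∧
    (uS b * vS b * (uS b)⁻¹ * (vS b)⁻¹) * c * (uS b * vS b * (uS b)⁻¹ * (vS b)⁻¹)⁻¹ = c ^ 2 ∧
    ∀ j : Fin 5, uT b j * c' = c' * uT b j ∧ vT b j * c' = c' * vT b j ∧
      (uT b j * vT b j * (uT b j)⁻¹ * (vT b j)⁻¹).1 = tri (b + Fin.ofNat 12 (j : ℕ))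

instance (b : Fin 12) (c c' : A12) : Decidable (SideOK b c c') := by unfold SideOK; infer_instance

theorem sideA : SideOK 0 (ev cA5) (ev cB5) := by decide +kernel

theorem sideB : SideOK 5 (ev cB5) (ev cA5) := by decide +kernel

theorem facts_pair : orderOf (ev cA5) = 5 ∧ orderOf (ev cB5) = 5 ∧ ev cA5 * ev cB5 = ev cB5 * ev cA5 ∧
    ∀ i : Fin 5, ev cB5 ≠ ev cA5 ^ (i : ℕ) := by
  haveI : Fact (Nat.Prime 5) := ⟨by norm_num⟩
  exact ⟨orderOf_eq_prime (by decide +kernel) (by decide +kernel),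
    orderOf_eq_prime (by decide +kernel) (by decide +kernel), by decide +kernel, by decide +kernel⟩

theorem comm_five : ∃ u v : A12, u * ev cA5 = ev cA5 * u ∧ v * ev cA5 = ev cA5 * v ∧
    u * v * u⁻¹ * v⁻¹ = ev cB5 := by
  refine ⟨ev (swap 7 8 * swap 8 9), ev (swap 5 8 * swap 8 9 * swap 9 6 * swap 6 7), by decide +kernel, by decide +kernel, ?_⟩
  decide +kernel

include hπ hmin

/-- Commuting elements of order five with squaring elements, whose centralisers generate. -/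
theorem exists_lifts (hrank : ∀ P : Subgroup H, IsPGroup 5 P → (frattini ↥P).index ≤ 5 ^ 7) :
    ∃ a b σ τ : H, orderOf a = 5 ∧ orderOf b = 5 ∧ a * b = b * a ∧ b ∉ Subgroup.zpowers a ∧
      π a ≠ 1 ∧ σ * a * σ⁻¹ = a ^ 2 ∧ σ * b * σ⁻¹ = b ∧ τ * b * τ⁻¹ = b ^ 2 ∧ τ * a * τ⁻¹ = a ∧
      Subgroup.centralizer {a} ⊔ Subgroup.centralizer {b} = ⊤ := by
  obtain ⟨hA, hB, hAB, hne⟩ := facts_pair
  obtain ⟨a0, -, ha0, ka, hka⟩ := exists_five_lift π hπ ⊤ hA ⟨_, Subgroup.mem_top _, (hπ _).choose_spec⟩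
  obtain ⟨u, v, hu, hv, huv⟩ := comm_five
  have hB1 : ev cB5 ∈ (Subgroup.centralizer {a0}).map π := huv ▸
    comm_mem_cent π hπ hmin hrank hka (by rw [ha0]; exact hu) (by rw [ha0]; exact hv)
  obtain ⟨b0, hb0C, hb0, kb, hkb⟩ := exists_five_lift π hπ _ hB hB1
  obtain ⟨hu, hv, hs, htriA⟩ := sideA
  obtain ⟨σ, hσ, a, haC, ⟨z, hz, rfl⟩, hπa, hao, hσa⟩ := exists_square π hπ hmin hrank (Subgroup.centralizer {b0})
    (Subgroup.mem_centralizer_singleton_iff.2 (Subgroup.mem_centralizer_singleton_iff.1 hb0C).symm) hka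
    (by rw [ha0]; exact hA) (comm_mem_cent π hπ hmin hrank hkb (u := uS 0) (v := vS 0) (by rw [hb0]; exact hu) (by rw [hb0]; exact hv))
    (by rw [ha0]; exact hs)
  have hb0a : b0 ∈ Subgroup.centralizer {z * a0} := Subgroup.mem_centralizer_singleton_iff.2
    (Subgroup.mem_centralizer_singleton_iff.1 haC).symm
  have hka' : (z * a0) ^ 5 ^ 1 = 1 := by rw [pow_one, ← hao, pow_orderOf_eq_one]
  obtain ⟨hu, hv, hs, htriB⟩ := sideB
  obtain ⟨τ, hτ, b, hbC, ⟨z', hz', rfl⟩, hπb, hbo, hτb⟩ := exists_square π hπ hmin hrank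
    (Subgroup.centralizer {z * a0}) hb0a hkb (by rw [hb0]; exact hB)
    (comm_mem_cent π hπ hmin hrank hka' (u := uS 5) (v := vS 5) (by rw [hπa, ha0]; exact hu) (by rw [hπa, ha0]; exact hv))
    (by rw [hb0]; exact hs)
  have hkb' : (z' * b0) ^ 5 ^ 1 = 1 := by rw [pow_one, ← hbo, pow_orderOf_eq_one]
  rw [Subgroup.mem_centralizer_singleton_iff] at hσ hbC hτ
  refine ⟨z * a0, z' * b0, σ, τ, hao, hbo, hbC.symm, fun hm => ?_, fun h => ?_, hσa, ?_, hτb,
    by rw [hτ, mul_inv_cancel_right], ?_⟩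
  · classical
    obtain ⟨i, hi, e⟩ := (mem_zpowers_iff_mem_range_orderOf (x := z * a0)).1 hm |> Finset.mem_image.1
    rw [hao] at hi
    refine hne ⟨i, Finset.mem_range.1 hi⟩ ?_
    rw [← hb0, ← hπb, ← e, map_pow, hπa, ha0]
  · rw [hπa, ha0] at h
    rw [h, orderOf_one] at hA
    exact absurd hA (by norm_num)
  · rw [show σ * (z' * b0) * σ⁻¹ = (σ * z') * b0 * σ⁻¹ by group, hz' σ, mul_assoc z', hσ]; group
  · refine hmin _ (gen_twelve fun x hx1 hx2 => ?_)
    obtain ⟨j, hj⟩ : ∃ j : Fin 5, x = (0 : Fin 12) + Fin.ofNat 12 (j : ℕ) ∨ x = (5 : Fin 12) + Fin.ofNat 12 (j : ℕ) := by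
      revert hx1 hx2; revert x; decide
    rcases hj with rfl | rfl
    · obtain ⟨hu, hv, e⟩ := htriA j
      refine Subgroup.map_mono le_sup_right ?_
      convert comm_mem_cent π hπ hmin hrank hkb' (u := uT 0 j) (v := vT 0 j) (by rw [hπb, hb0]; exact hu)
        (by rw [hπb, hb0]; exact hv) using 1
      exact Subtype.ext e.symm
    · obtain ⟨hu, hv, e⟩ := htriB j
      refine Subgroup.map_mono le_sup_left ?_
      convert comm_mem_cent π hπ hmin hrank hka' (u := uT 5 j) (v := vT 5 j) (by rw [hπa, ha0]; exact hu)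
        (by rw [hπa, ha0]; exact hv) using 1
      exact Subtype.ext e.symm

end Cfsg.Lib.Chev.E6Alt
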