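import Cfsg.Agent.Lib.Chev.E6Alt.Ten
import Cfsg.Agent.Lib.Chev.AltSection.Lift
import Cfsg.Agent.Lib.Chev.AltSection.Section

/-!
Alternating sections of the groups of type E6: no section of degree twelve in characteristic prime to thirty
and no section of degree thirteen.
-/

set_option autoImplicit false
set_option linter.unusedSectionVars false
set_option maxRecDepth 100000

namespace Cfsg.Lib.Chev.E6Alt

open Cfsg.Lie Equiv
open Cfsg.Lib.Linear.AltDeg (rootPow rootPow_injective)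

variable {F : Type*} [Field F] [Fintype F]

local notation "tH" => torusHom chevE6 tblE6 F
local notation "χ[" c "]" => chr tblE6 chevE6 (extend' c)

set_option quotPrecheck false in
local notation "G6" => ↥(chevE6.group F)

theorem exists_root {n : ℕ} (hn : 1 < n) (hq : Nat.card F % n = 1) : ∃ l : Fˣ, orderOf l = n := by
  have hdvd : n ∣ Nat.card Fˣ := by
    rw [Nat.card_units]
    refine (Nat.modEq_iff_dvd' Nat.card_pos).1 ?_
    rw [Nat.ModEq, hq, Nat.one_mod_eq_one.2 (by omega)]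
  obtain ⟨u, hu⟩ := IsCyclic.exists_ofOrder_eq_natCard (α := Fˣ)
  obtain ⟨m, hm⟩ := hdvd
  have hm0 : 0 < m := by
    rcases Nat.eq_zero_or_pos m with rfl | h
    · rw [mul_zero] at hm
      exact absurd hm Nat.card_pos.ne'
    · exact h
  exact ⟨u ^ m, by rw [orderOf_pow' u hm0.ne', hu, hm, Nat.gcd_mul_left_left, Nat.mul_div_cancel _ hm0]⟩

theorem three_half : (3 : ZMod 5) * 2 = 1 := by decide

theorem six_half : (6 : ZMod 11) * 2 = 1 := by decide

theorem coe_mul_gl {a b : G6} : ((a * b : G6) : GL chevE6.Idx F) = a * b := rfl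

theorem wnu_mem' {u : List ℕ} (hu : IsWord chevE6 u) : wnu certE6C F u ∈ chevE6.group F :=
  monomial_le_group certE6C (wnu_mem certE6C hu)

theorem par_mem (c : Fin chevE6.rank → Fˣ) : tH c ∈ chevE6.diagonalSubgroup F := by
  rw [← torusHom_range certE6C]; exact ⟨c, rfl⟩

theorem Td_par {t : G6} (ht : t ∈ Td F) : ∃ c, (t : GL chevE6.Idx F) = tH c :=
  exists_par (Subgroup.mem_subgroupOf.1 ht)

/-- The exponents of a torus element of prime order are not all zero. -/
theorem exists_vec_ne {ℓ : ℕ} [Fact ℓ.Prime] {ζ : F} (hζ : IsPrimitiveRoot ζ ℓ) {t : G6} (ht : t ∈ Td F)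
    (hℓ : t ^ ℓ = 1) (h1 : t ≠ 1) :
    ∃ c v, (t : GL chevE6.Idx F) = tH c ∧ HasVec (ℓ := ℓ) ζ c v ∧ v ≠ 0 := by
  obtain ⟨c, hc⟩ := Td_par ht
  obtain ⟨v, hv⟩ := exists_vec hζ (c := c) (by rw [← hc, ← SubmonoidClass.coe_pow, hℓ]; rfl)
  refine ⟨c, v, hc, hv, ?_⟩
  rintro rfl
  refine h1 (Subtype.ext ?_)
  rw [hc, OneMemClass.coe_one, ← map_one tH]
  refine tH_ext fun k => ?_
  rw [hv _ (certE6C.spec.simp_lt k k.2), val_zero]
  simp [rootPow, chr, extend']

/-- Conjugating by a word moves the exponents. -/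
theorem word_move {ζ : F} {ℓ : ℕ} [Fact ℓ.Prime] (hζ : IsPrimitiveRoot ζ ℓ) {u : List ℕ} (hu : IsWord chevE6 u) :
    ∃ n : G6, (∀ t ∈ Td F, n⁻¹ * t * n ∈ Td F) ∧
      ∀ (t : G6) (c : Fin chevE6.rank → Fˣ) (v : Fin 6 → ZMod ℓ), (t : GL chevE6.Idx F) = tH c → HasVec ζ c v →
        ∃ e, ((n⁻¹ * t * n : G6) : GL chevE6.Idx F) = tH e ∧ HasVec ζ e (E6Alt.act u v) := by
  refine ⟨⟨_, wnu_mem' hu⟩, fun t ht => Subgroup.mem_subgroupOf.2 (word_conj_diag hu (Subgroup.mem_subgroupOf.1 ht)),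
    fun t c v ht hv => ?_⟩
  obtain ⟨e, he⟩ := exists_par (word_conj_diag hu (par_mem c))
  refine ⟨e, ?_, hv.word_conj hζ hu rfl he⟩
  rw [← he, ← ht]
  rfl

set_option maxHeartbeats 1600000 in
/-- Some nontrivial element of an elementary pair is toral. -/
theorem exists_toral (hq : Nat.card F % 25 = 1) {H : Type*} [Group H] [Finite H] (f : H →* G6) {a b : H}
    (ha : orderOf a = 5) (hb : orderOf b = 5) (hab : a * b = b * a) (hne : b ∉ Subgroup.zpowers a) :
    ∃ (t : G6) (i j : ℤ), a ^ i * b ^ j ≠ 1 ∧ t⁻¹ * f (a ^ i * b ^ j) * t ∈ Td F := by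
  classical
  haveI : Fact (Nat.Prime 5) := ⟨by norm_num⟩
  have hc : ∀ i j : ℤ, Commute (a ^ i) (b ^ j) := fun i j => Commute.zpow_zpow hab i j
  let P : Subgroup H :=
    { carrier := {x | ∃ i j : ℤ, x = a ^ i * b ^ j}
      one_mem' := ⟨0, 0, by simp⟩
      mul_mem' := by
        rintro _ _ ⟨i, j, rfl⟩ ⟨i', j', rfl⟩
        exact ⟨i + i', j + j', by rw [zpow_add, zpow_add, mul_assoc, ← mul_assoc (b ^ j), ← (hc i' j).eq, mul_assoc,
          ← mul_assoc (a ^ i)]⟩
      inv_mem' := by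
        rintro _ ⟨i, j, rfl⟩
        exact ⟨-i, -j, by rw [mul_inv_rev, zpow_neg, zpow_neg, ((hc i j).inv_inv).eq]⟩ }
  have hP : IsPGroup 5 P := fun ⟨x, i, j, hx⟩ => ⟨1, Subtype.ext (by
    show x ^ 5 ^ 1 = 1
    rw [hx, pow_one, (hc i j).mul_pow, ← zpow_natCast, zpow_comm, zpow_natCast, ← ha, pow_orderOf_eq_one, one_zpow,
      one_mul, ← zpow_natCast, zpow_comm, zpow_natCast, ha, ← hb, pow_orderOf_eq_one, one_zpow])⟩
  obtain ⟨t, Q, hQ, hQT⟩ := exists_small_orbit hq hP (f.comp P.subtype)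
  have hcard : 6 ≤ Nat.card P := by
    let g : Fin 5 ⊕ Fin 1 → P := Sum.elim (fun i => ⟨a ^ (i : ℕ) * b ^ (0 : ℤ), (i : ℕ), 0, by rw [zpow_natCast]⟩)
      fun _ => ⟨b, 0, 1, by simp⟩
    have hg : Function.Injective g := by
      rintro (i | i) (j | j) e
      · have e' := congrArg Subtype.val e
        simp only [g, Sum.elim_inl, zpow_zero, mul_one] at e'
        refine congrArg Sum.inl (Fin.ext ?_)
        exact pow_injOn_Iio_orderOf (by rw [Set.mem_Iio, ha]; exact i.2) (by rw [Set.mem_Iio, ha]; exact j.2) e'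
      · have e' := congrArg Subtype.val e
        simp only [g, Sum.elim_inl, Sum.elim_inr, zpow_zero, mul_one] at e'
        exact absurd (e' ▸ pow_mem (Subgroup.mem_zpowers a) _) hne
      · have e' := congrArg Subtype.val e
        simp only [g, Sum.elim_inl, Sum.elim_inr, zpow_zero, mul_one] at e'
        exact absurd (e' ▸ pow_mem (Subgroup.mem_zpowers a) _) hne
      · exact congrArg Sum.inr (Subsingleton.elim _ _)
    simpa using Nat.card_le_card_of_injective g hg
  have hQne : Q ≠ ⊥ := fun e => by rw [e, Subgroup.index_bot] at hQ; omega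
  obtain ⟨x, hx, hx1⟩ := Q.bot_or_exists_ne_one.resolve_left hQne
  obtain ⟨i, j, hij⟩ := x.2
  have h := hQT x hx
  simp only [MonoidHom.comp_apply, Subgroup.coe_subtype, hij] at h
  exact ⟨t, i, j, fun e => hx1 (Subtype.ext (hij.trans e)), h⟩

/-- A pair of lifts moved to the diagonal subgroup, the second to the chosen element. -/
theorem exists_placed (hq : Nat.card F % 25 = 1) {ζ : F} (hζ : IsPrimitiveRoot ζ 5) {H : Type*} [Group H] [Finite H]
    (f : H →* G6) (hf : Function.Injective f) {a b σ τ : H} (ha : orderOf a = 5) (hb : orderOf b = 5)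
    (hab : a * b = b * a) (hne : b ∉ Subgroup.zpowers a) (hσa : σ * a * σ⁻¹ = a ^ 2) (hσb : σ * b * σ⁻¹ = b)
    (hτb : τ * b * τ⁻¹ = b ^ 2) (hτa : τ * a * τ⁻¹ = a) :
    ∃ (φ : H →* G6) (cb : Fin chevE6.rank → Fˣ), Function.Injective φ ∧ φ a ∈ Td F ∧
      (φ b : GL chevE6.Idx F) = tH cb ∧ HasVec (ℓ := 5) ζ cb x₀ := by
  haveI : Fact (Nat.Prime 5) := ⟨by norm_num⟩
  have ha5 : a ^ 5 = 1 := by rw [← ha, pow_orderOf_eq_one]
  have hb5 : b ^ 5 = 1 := by rw [← hb, pow_orderOf_eq_one]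
  obtain ⟨t, i, j, hv1, hvT⟩ := exists_toral hq f ha hb hab hne
  obtain ⟨v, hvdef⟩ : ∃ v, v = a ^ i * b ^ j := ⟨_, rfl⟩
  rw [← hvdef] at hv1 hvT
  have hcab : ∀ i j : ℤ, Commute (a ^ i) (b ^ j) := fun i j => Commute.zpow_zpow hab i j
  have hv5 : v ^ 5 = 1 := by
    rw [hvdef, (hcab i j).mul_pow, ← zpow_natCast, zpow_comm, zpow_natCast, ha5, one_zpow, one_mul,
      ← zpow_natCast, zpow_comm, zpow_natCast, hb5, one_zpow]
  have hsq : σ * τ * v * (σ * τ)⁻¹ = v ^ 2 := by
    have e1 : τ * v * τ⁻¹ = a ^ i * (b ^ 2) ^ j := by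
      rw [hvdef, show τ * (a ^ i * b ^ j) * τ⁻¹ = (τ * a ^ i * τ⁻¹) * (τ * b ^ j * τ⁻¹) by group, ← conj_zpow, hτa,
        ← conj_zpow, hτb]
    rw [show σ * τ * v * (σ * τ)⁻¹ = σ * (τ * v * τ⁻¹) * σ⁻¹ by group, e1,
      show σ * (a ^ i * (b ^ 2) ^ j) * σ⁻¹ = (σ * a ^ i * σ⁻¹) * (σ * (b ^ 2) ^ j * σ⁻¹) by group, ← conj_zpow, hσa,
      ← conj_zpow, ← conj_pow, hσb, hvdef, (hcab i j).mul_pow]
    simp only [← zpow_natCast, ← zpow_mul, mul_comm]
  let f1 : H →* G6 := (MulAut.conj t⁻¹).toMonoidHom.comp f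
  have hf1 : Function.Injective f1 := (MulAut.conj t⁻¹).injective.comp hf
  have hT1 : f1 v ∈ Td F := by
    show t⁻¹ * f v * t⁻¹⁻¹ ∈ Td F
    rwa [inv_inv]
  obtain ⟨c, w0, hc, hw0, hw0ne⟩ := exists_vec_ne hζ hT1 (by rw [← map_pow, hv5, map_one])
    (fun e => hv1 (hf1 (e.trans (map_one f1).symm)))
  obtain ⟨w, hw, hwact, -⟩ := exists_word_of_sq hζ three_half (f1 (σ * τ)).2 hw0 (by
    rw [← hc, ← coe_mul_gl, ← Subgroup.coe_inv, ← coe_mul_gl, ← map_inv, ← map_mul, ← map_mul, hsq, map_pow,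
      SubmonoidClass.coe_pow])
  obtain ⟨u, hu, hux⟩ := exists_word_five hw0ne hw hwact
  obtain ⟨n, hnT, hnv⟩ := word_move (F := F) hζ hu
  obtain ⟨e, he, hve⟩ := hnv _ _ _ hc hw0
  rw [hux] at hve
  let f2 : H →* G6 := (MulAut.conj n⁻¹).toMonoidHom.comp f1
  have hf2 : Function.Injective f2 := (MulAut.conj n⁻¹).injective.comp hf1
  have he2 : (f2 v : GL chevE6.Idx F) = tH e := by
    rw [← he]
    show ((n⁻¹ * f1 v * n⁻¹⁻¹ : G6) : GL chevE6.Idx F) = _
    rw [inv_inv]
  -- the pair centralises it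
  let P : Subgroup H := Subgroup.closure {a, b}
  have hPc : ∀ x ∈ P, ∀ y ∈ P, Commute x y := by
    intro x hx y hy
    have : IsMulCommutative P := Subgroup.isMulCommutative_closure (by
      rintro x (rfl | rfl) y (rfl | rfl) <;> first | rfl | exact hab | exact hab.symm)
    exact congrArg Subtype.val (this.is_comm.comm ⟨x, hx⟩ ⟨y, hy⟩)
  have hP5 : ∀ x ∈ P, x ^ 5 = 1 := by
    intro x hx
    induction hx using Subgroup.closure_induction with
    | mem x hx => rcases hx with rfl | rfl <;> assumption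
    | one => exact one_pow 5
    | mul x y hx hy ihx ihy => rw [(hPc x hx y hy).mul_pow, ihx, ihy, one_mul]
    | inv x _ ih => rw [inv_pow, ih, inv_one]
  have hvP : v ∈ P := hvdef ▸ mul_mem (zpow_mem (Subgroup.subset_closure (by simp)) i)
    (zpow_mem (Subgroup.subset_closure (by simp)) j)
  obtain ⟨g, -, hgT⟩ := toral_of_cent hq hζ hve he2 (P := P.map f2) (by
      rintro ⟨_, x, hx, rfl⟩
      exact ⟨1, Subtype.ext (by show f2 x ^ 5 ^ 1 = 1; rw [pow_one, ← map_pow, hP5 x hx, map_one])⟩) (by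
      rintro _ ⟨x, hx, rfl⟩
      rw [← map_mul, ← map_mul, (hPc v hvP x hx).eq])
  let f3 : H →* G6 := (MulAut.conj g).toMonoidHom.comp f2
  have hf3 : Function.Injective f3 := (MulAut.conj g).injective.comp hf2
  have hT3 : ∀ x ∈ P, f3 x ∈ Td F := fun x hx => hgT _ ⟨x, hx, rfl⟩
  -- the second element
  obtain ⟨cb, vb, hcb, hvb, hvbne⟩ := exists_vec_ne hζ (hT3 b (Subgroup.subset_closure (by simp)))
    (by rw [← map_pow, hb5, map_one])
    (fun e => by
      rw [hf3 (e.trans (map_one f3).symm), orderOf_one] at hb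
      exact absurd hb (by norm_num))
  obtain ⟨w', hw', hwact', -⟩ := exists_word_of_sq hζ three_half (f3 τ).2 hvb (by
    rw [← hcb, ← coe_mul_gl, ← Subgroup.coe_inv, ← coe_mul_gl, ← map_inv, ← map_mul, ← map_mul, hτb, map_pow,
      SubmonoidClass.coe_pow])
  obtain ⟨u', hu', hux'⟩ := exists_word_five hvbne hw' hwact'
  obtain ⟨n', hnT', hnv'⟩ := word_move (F := F) hζ hu'
  obtain ⟨e', he', hve'⟩ := hnv' _ _ _ hcb hvb
  rw [hux'] at hve'
  refine ⟨(MulAut.conj n'⁻¹).toMonoidHom.comp f3, e', (MulAut.conj n'⁻¹).injective.comp hf3, ?_, ?_, hve'⟩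
  · show n'⁻¹ * f3 a * n'⁻¹⁻¹ ∈ Td F
    rw [inv_inv]
    exact hnT' _ (hT3 a (Subgroup.subset_closure (by simp)))
  · rw [← he']
    show ((n'⁻¹ * f3 b * n'⁻¹⁻¹ : G6) : GL chevE6.Idx F) = _
    rw [inv_inv]

/-- The parameters of the central element. -/
def czA : List ℤ := [1, 0, 2, 0, -2, -1]

theorem czA_chk : ∀ r < 72, fval tblE6 czA r = 3 * val zV r := by decide +kernel

theorem vec_act_eq {v : Fin 6 → ZMod 5} {ζ : F} (hζ : IsPrimitiveRoot ζ 5) {c : Fin chevE6.rank → Fˣ}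
    [Fact (Nat.Prime 5)] (hc : HasVec ζ c v) {w : List ℕ} (hw : IsWord chevE6 w)
    (h : ∀ r < 72, χ[c] (wperm tblE6 w r) = χ[c] r) : E6Alt.act w v = v := funext fun k => by
  have hr : tblE6.simp' k < 72 := certE6C.spec.simp_lt k k.2
  have e := h _ hr
  rw [hc _ hr, hc _ (wperm_lt certE6C hw hr), val_simp] at e
  exact rootPow_injective hζ e

theorem act_cancel {R : Type*} [CommRing R] {u : List ℕ} (hu : IsWord chevE6 u) (v : Fin 6 → R) :
    E6Alt.act u.reverse (E6Alt.act u v) = v := by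
  rw [← act_append hu hu.reverse]
  funext k
  have hs : tblE6.simp' k < 72 := certE6C.spec.simp_lt k k.2
  have e : wperm tblE6 u (wperm tblE6 u.reverse (tblE6.simp' k)) = tblE6.simp' k := by
    have := wperm_reverse certE6C hu.reverse (show tblE6.simp' k < chevE6.nroots from hs)
    rwa [List.reverse_reverse] at this
  show val v _ = _
  rw [wperm_append, e, val_simp]

/-- No section of degree twelve. -/
theorem no_A12 (p : ℕ) [Fact p.Prime] [CharP F p] (hp : ¬ p ∣ 12) (hq : Nat.card F % 25 = 1)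
    {H : Type*} [Group H] [Finite H] (f : H →* G6) (hf : Function.Injective f) (π : H →* A12)
    (hπ : Function.Surjective π) : False := by
  haveI : Fact (Nat.Prime 5) := ⟨by norm_num⟩
  obtain ⟨L, hL, hmin⟩ := exists_minimal_cover π hπ
  have hπL : Function.Surjective (π.comp L.subtype) := fun x => by
    obtain ⟨y, hy, e⟩ := hL.ge (Subgroup.mem_top x)
    exact ⟨⟨y, hy⟩, e⟩
  obtain ⟨l, hl⟩ := exists_root (F := F) (by norm_num : 1 < 25) hq
  have hζ : IsPrimitiveRoot ((l ^ 5 : Fˣ) : F) 5 := by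
    rw [IsPrimitiveRoot.coe_units_iff, IsPrimitiveRoot.iff_orderOf, orderOf_pow' l (by norm_num), hl]
    norm_num
  obtain ⟨a, b, σ, τ, ha, hb, hab, hne, -, hσa, hσb, hτb, hτa, hsup⟩ := exists_lifts (π.comp L.subtype) hπL hmin
    fun P hP => frattini_index hq hζ hP ((f.comp L.subtype).comp P.subtype)
      (hf.comp (L.subtype_injective.comp P.subtype_injective))
  obtain ⟨φ, cb, hφ, haT, hcb, hvb⟩ := exists_placed hq hζ (f.comp L.subtype) (hf.comp L.subtype_injective) ha hb hab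
    hne hσa hσb hτb hτa
  obtain ⟨ca, va, hca, hva, hvane⟩ := exists_vec_ne hζ haT (by rw [← map_pow, ← ha, pow_orderOf_eq_one, map_one])
    (fun e => by
      rw [hφ (e.trans (map_one φ).symm), orderOf_one] at ha
      exact absurd ha (by norm_num))
  obtain ⟨w, hw, hwact, hfus⟩ := exists_word_of_sq hζ three_half (φ σ).2 hva (by
    rw [← hca, ← coe_mul_gl, ← Subgroup.coe_inv, ← coe_mul_gl, ← map_inv, ← map_mul, ← map_mul, hσa, map_pow,
      SubmonoidClass.coe_pow])
  have hwx : E6Alt.act w x₀ = x₀ := HasVec.act hζ hw hvb hvb (hfus cb cb (by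
    rw [← hcb, ← coe_mul_gl, ← Subgroup.coe_inv, ← coe_mul_gl, ← map_inv, ← map_mul, ← map_mul, hσb]))
  obtain ⟨u, hu, hux, huz, hst⟩ := exists_partner hvane hw hwx hwact
  obtain ⟨cz, hczdef⟩ : ∃ cz : Fin chevE6.rank → Fˣ, cz = fun i : Fin chevE6.rank => l ^ czA.getD i 0 := ⟨_, rfl⟩
  have hcz : ∀ r < 72, χ[cz] r = (l : F) ^ (3 * val zV r) := fun r hr => by
    rw [hczdef, ← czA_chk r hr]
    exact chr_cochar certE6C czA l r
  have hbz : ∀ w', IsWord chevE6 w' → E6Alt.act w' x₀ = x₀ → E6Alt.act w' zV = zV := fun w' hw' h => by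
    obtain ⟨v', hv', hk⟩ := stab_x₀ hw' h
    funext k
    show val zV _ = _
    rw [hk k k.2, (stW_fix v' hv' k).1]
  have haz : ∀ w', IsWord chevE6 w' → E6Alt.act w' va = va → E6Alt.act w' zV = zV := fun w' hw' h => by
    have hwd : IsWord chevE6 (u.reverse ++ w') := hu.reverse.append hw'
    have h0 := hst (u.reverse ++ w' ++ u) (hwd.append hu) (by
      rw [act_append hwd hu, act_append hu.reverse hw', ← hux, act_cancel hu, h])
    rw [act_append hwd hu, act_append hu.reverse hw', act_cancel hu] at h0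
    rw [← act_cancel hu (E6Alt.act w' zV), h0, act_cancel hu]
  have key : ∀ (x : L) (c : Fin chevE6.rank → Fˣ) (v : Fin 6 → ZMod 5), (φ x : GL chevE6.Idx F) = tH c →
      HasVec ((l ^ 5 : Fˣ) : F) c v → (∀ r < 72, val v r = 0 → val zV r = 0) →
      (∀ w', IsWord chevE6 w' → E6Alt.act w' v = v → E6Alt.act w' zV = zV) →
      Subgroup.centralizer {x} ≤ ((Subgroup.centralizer {tH cz}).comap ((chevE6.group F).subtype.comp φ)) := by
    intro x c v hx hv h0 hstab g hg
    rw [Subgroup.mem_comap, Subgroup.mem_centralizer_singleton_iff]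
    refine (comm_of_cent (c := c) (fun r hr h1 => ?_) (fun w' hw' h1 r hr => ?_) (φ g).2 ?_).symm
    · rw [hcz r hr, h0 r hr (rootPow_injective hζ (by rw [← hv r hr, h1]; simp [rootPow])), mul_zero, zpow_zero]
    · rw [hcz r hr, hcz _ (wperm_lt certE6C hw' hr), ← val_act hw' zV hr,
        hstab w' hw' (vec_act_eq hζ hv hw' h1)]
    · rw [← hx, ← coe_mul_gl, ← coe_mul_gl, ← map_mul, ← map_mul, Subgroup.mem_centralizer_singleton_iff.1 hg]
  have htop : (Subgroup.centralizer {tH cz}).comap ((chevE6.group F).subtype.comp φ) = ⊤ := by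
    refine eq_top_iff.2 (hsup ▸ sup_le (key a ca va hca hva ?_ haz) (key b cb x₀ hcb hvb zV_lo hbz))
    intro r hr h0
    have hr' : wperm tblE6 u.reverse r < 72 := wperm_lt certE6C hu.reverse hr
    have e : wperm tblE6 u (wperm tblE6 u.reverse r) = r := by
      have := wperm_reverse certE6C hu.reverse (show r < chevE6.nroots from hr)
      rwa [List.reverse_reverse] at this
    have := huz _ hr' (by rw [← hux, val_act hu va hr', e]; exact h0)
    rwa [e] at this
  exact ten_bound p hp hl hζ (π.comp L.subtype) hπL hmin φ hcz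
    (fun h => (Subgroup.mem_centralizer_singleton_iff.1 (htop.ge (Subgroup.mem_top h))).symm) hcb hvb

/-! ### Degree thirteen -/

/-- The alternating group of degree thirteen. -/
abbrev A13 := ↥(alternatingGroup (Fin 13))

/-- An eleven-cycle. -/
def c11 : Perm (Fin 13) :=
  swap 0 1 * swap 1 2 * swap 2 3 * swap 3 4 * swap 4 5 * swap 5 6 * swap 6 7 * swap 7 8 * swap 8 9 * swap 9 10

/-- An element squaring the eleven-cycle. -/
def s11 : Perm (Fin 13) :=
  swap 1 2 * swap 2 4 * swap 4 8 * swap 8 5 * swap 5 10 * swap 10 9 * swap 9 7 * swap 7 3 * swap 3 6 * swap 11 12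

theorem c11_even : c11 ∈ alternatingGroup (Fin 13) := Perm.mem_alternatingGroup.2 (by decide +kernel)

theorem s11_even : s11 ∈ alternatingGroup (Fin 13) := Perm.mem_alternatingGroup.2 (by decide +kernel)

theorem s11_chk : (⟨s11, s11_even⟩ : A13) * ⟨c11, c11_even⟩ * (⟨s11, s11_even⟩ : A13)⁻¹ =
    (⟨c11, c11_even⟩ : A13) ^ 2 ∧ (⟨c11, c11_even⟩ : A13) ^ 11 = 1 ∧ (⟨c11, c11_even⟩ : A13) ≠ 1 := by
  decide +kernel

/-- No section of degree thirteen. -/
theorem no_A13 (hq : Nat.card F % 11 = 1) {H : Type*} [Group H] [Finite H] (f : H →* G6)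
    (hf : Function.Injective f) (π : H →* A13) (hπ : Function.Surjective π) : False := by
  classical
  haveI : Fact (Nat.Prime 11) := ⟨by norm_num⟩
  obtain ⟨l, hl⟩ := exists_root (F := F) (by norm_num : 1 < 11) hq
  have hζ : IsPrimitiveRoot (l : F) 11 := by rw [IsPrimitiveRoot.coe_units_iff, IsPrimitiveRoot.iff_orderOf, hl]
  obtain ⟨hsq, h11, hne⟩ := s11_chk
  generalize (⟨c11, c11_even⟩ : A13) = A at hsq h11 hne
  generalize (⟨s11, s11_even⟩ : A13) = S at hsq
  have hA : orderOf A = 11 := orderOf_eq_prime h11 hne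
  obtain ⟨P, hP, hAP, hlift⟩ := Cfsg.Lib.Chev.AltSection.exists_sylow_lift π hπ hA
  obtain ⟨y, hy, hys⟩ := hlift S (by rw [hsq]; exact pow_mem (Subgroup.mem_zpowers A) 2)
  have hidx : ¬ 11 ∣ (Td F).index :=
    Cfsg.Lib.Chev.AltSection.torus_index_mod certE6C fullCertE6 chkWeylE6 (by norm_num) hq
      (by rw [prod_lens]; norm_num)
  obtain ⟨t, ht⟩ : (MulAction.fixedPoints (P.map f) (G6 ⧸ Td F)).Nonempty :=
    (hP.map f).nonempty_fixed_point_of_prime_not_dvd_card _ (by rwa [← Subgroup.index_eq_card])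
  induction t using QuotientGroup.induction_on with
  | H t =>
  let g : H →* G6 := (MulAut.conj t⁻¹).toMonoidHom.comp f
  have hg : Function.Injective g := (MulAut.conj t⁻¹).injective.comp hf
  have hPT : ∀ x ∈ P, g x ∈ Td F := by
    intro x hx
    have h := QuotientGroup.eq.mp (ht ⟨f x, x, hx, rfl⟩).symm
    simpa [g, mul_assoc] using h
  have hPc : ∀ x z : P, x * z = z * x := fun x z => Subtype.ext (hg (by
    rw [Subgroup.coe_mul, Subgroup.coe_mul, map_mul, map_mul]
    exact Td_comm (hPT _ x.2) (hPT _ z.2)))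
  letI : CommGroup P := { (inferInstance : Group P) with mul_comm := hPc }
  have hyP : ∀ x ∈ P, y * x * y⁻¹ ∈ P := fun x hx => (Subgroup.mem_normalizer_iff.mp hy x).mp hx
  let δ : P →* P :=
    { toFun := fun x => ⟨y * x * y⁻¹, hyP x x.2⟩ * (x ^ 2)⁻¹
      map_one' := Subtype.ext (by simp)
      map_mul' := fun x z => by
        rw [mul_pow, mul_inv, mul_mul_mul_comm]
        refine congrArg (· * _) (Subtype.ext ?_)
        show y * ((x : H) * z) * y⁻¹ = y * x * y⁻¹ * (y * z * y⁻¹)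
        group }
  have hker : δ.ker ≠ ⊥ := by
    intro hbot
    obtain ⟨q, hqP, hqA⟩ := hAP
    obtain ⟨x, hx⟩ := (Finite.injective_iff_surjective.1 ((MonoidHom.ker_eq_bot_iff δ).1 hbot)) ⟨q, hqP⟩
    obtain ⟨k, hk⟩ := ((hP.map π).to_subgroup ⊤).exists_card_eq
    rw [Subgroup.card_top] at hk
    have hk1 : k ≤ 1 := by
      by_contra h
      have h1 : 11 ^ 2 ∣ Nat.card A13 := (Nat.pow_dvd_pow 11 (by omega : 2 ≤ k)).trans (hk ▸ Subgroup.card_subgroup_dvd_card _)
      rw [nat_card_alternatingGroup, Nat.card_eq_fintype_card, Fintype.card_fin] at h1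
      revert h1
      decide
    have hPA : P.map π = Subgroup.zpowers A := by
      refine (Subgroup.eq_of_le_of_card_ge (Subgroup.zpowers_le.2 (show A ∈ P.map π from ⟨q, hqP, hqA⟩)) ?_).symm
      rw [hk, Nat.card_zpowers, hA]
      exact (Nat.pow_le_pow_right (by norm_num) hk1).trans_eq (pow_one 11)
    obtain ⟨i, hi⟩ := Subgroup.mem_zpowers_iff.1 (hPA.le (show π (x : H) ∈ P.map π from Subgroup.mem_map_of_mem π x.2))
    have h1 : π ((δ x : P) : H) = 1 := by
      show π (y * x * y⁻¹ * ((x : H) ^ 2)⁻¹) = 1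
      rw [map_mul, map_mul, map_mul, map_inv, map_inv, map_pow, hys, ← hi, ← conj_zpow, hsq,
        ← zpow_natCast, ← zpow_natCast, ← zpow_mul, ← zpow_mul, mul_comm i, mul_inv_cancel]
    rw [hx] at h1
    exact hne (hqA.symm.trans h1)
  obtain ⟨k, hk⟩ := (hP.to_subgroup δ.ker).exists_card_eq
  have hk0 : k ≠ 0 := by
    rintro rfl
    rw [pow_zero] at hk
    exact hker (Subgroup.card_eq_one.1 hk)
  obtain ⟨x, hx⟩ := exists_prime_orderOf_dvd_card' (G := δ.ker) 11 (hk ▸ dvd_pow_self 11 hk0)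
  have hxy : y * (x : P) * y⁻¹ = ((x : P) : H) ^ 2 := by
    have h := congrArg Subtype.val (MonoidHom.mem_ker.1 x.2)
    exact mul_inv_eq_one.1 h
  obtain ⟨c, v, hc, hv, hvne⟩ := exists_vec_ne hζ (hPT _ (x : P).2)
    (by rw [← map_pow, ← SubmonoidClass.coe_pow, ← SubmonoidClass.coe_pow, ← hx, pow_orderOf_eq_one]; exact map_one g)
    (fun e => by
      have : x = 1 := Subtype.ext (Subtype.ext (hg (e.trans (map_one g).symm)))
      rw [this, orderOf_one] at hx
      exact absurd hx (by norm_num))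
  obtain ⟨w, hw, hwact, -⟩ := exists_word_of_sq hζ six_half (g y).2 hv (by
    rw [← hc, ← coe_mul_gl, ← Subgroup.coe_inv, ← coe_mul_gl, ← map_inv, ← map_mul, ← map_mul, hxy, map_pow,
      SubmonoidClass.coe_pow])
  exact no_word_eleven hvne hw hwact

/-- The bound on the degree of an alternating section. -/
theorem degree_bound (p : ℕ) [Fact p.Prime] [CharP F p] (r : ℕ) {H : Type*} [Group H] [Finite H] (f : H →* G6)
    (hf : Function.Injective f) (π : H →* ↥(alternatingGroup (Fin r))) (hπ : Function.Surjective π) :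
    r ≤ 11 + (if p = 2 ∨ p = 3 ∨ p = 5 then 1 else 0) := by
  by_contra hlt
  obtain ⟨k, hp', hkF⟩ := FiniteField.card F p
  have hcardp : ∀ n : ℕ, Nat.card F ^ n = p ^ ((k : ℕ) * n) := fun n => by
    rw [Nat.card_eq_fintype_card, hkF, ← pow_mul]
  by_cases h : p = 2 ∨ p = 3 ∨ p = 5
  · rw [if_pos h] at hlt
    obtain ⟨H', π', hπ'⟩ := Cfsg.Lib.Chev.AltSection.exists_subsection (m := 13) (by omega) π hπ
    obtain ⟨E, _, _, g, hg, hE⟩ := Cfsg.Lib.Chev.AltSection.exists_extension (D := chevE6) certE6C p 10 (F := F)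
    refine no_A13 (F := E) ?_ (g.comp (f.comp H'.subtype)) (hg.comp (hf.comp H'.subtype_injective)) π' hπ'
    rw [hE]
    exact Cfsg.Lib.Chev.AltSection.card_pow_mod p (by norm_num) (by omega) dvd_rfl
  · rw [if_neg h] at hlt
    push Not at h
    obtain ⟨H', π', hπ'⟩ := Cfsg.Lib.Chev.AltSection.exists_subsection (m := 12) (by omega) π hπ
    obtain ⟨E, _, _, g, hg, hE⟩ := Cfsg.Lib.Chev.AltSection.exists_extension (D := chevE6) certE6C p 20 (F := F)
    haveI : CharP E p := charP_of_card_eq_prime_pow (f := (k : ℕ) * 20) (by rw [← Nat.card_eq_fintype_card, hE, hcardp])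
    refine no_A12 (F := E) p ?_ ?_ (g.comp (f.comp H'.subtype)) (hg.comp (hf.comp H'.subtype_injective)) π' hπ'
    · intro hd
      have h3 : p ∣ 2 ^ 2 * 3 := by norm_num; exact hd
      rcases (hp'.dvd_mul).1 h3 with h2 | h2
      · exact h.1 ((Nat.prime_dvd_prime_iff_eq hp' Nat.prime_two).1 (hp'.dvd_of_dvd_pow h2))
      · exact h.2.1 ((Nat.prime_dvd_prime_iff_eq hp' Nat.prime_three).1 h2)
    · rw [hE, hcardp, pow_mul, show (20 : ℕ) = Nat.totient 25 by decide]
      have hc : Nat.Coprime (p ^ (k : ℕ)) 25 :=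
        Nat.Coprime.pow_left _ ((Nat.coprime_primes hp' (by norm_num : Nat.Prime 5)).2 h.2.2 |>.pow_right 2)
      exact Nat.ModEq.pow_totient hc

/-- Words in root elements lie in the group. -/
theorem genSubgroup_le {K : Type*} [Field K] (S : Set (List (ℕ × K))) : chevE6.genSubgroup K S ≤ chevE6.group K := by
  refine (Subgroup.closure_le _).2 ?_
  rintro g ⟨w, -, hg⟩
  suffices ∀ w : List (ℕ × K), ∃ h ∈ chevE6.group K, (h : Matrix chevE6.Idx chevE6.Idx K) = chevE6.wordMat K w by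
    obtain ⟨h, hh, e⟩ := this w
    rwa [show g = h from Units.ext (hg.trans e.symm)]
  intro w
  induction w with
  | nil => exact ⟨1, one_mem _, rfl⟩
  | cons a w ih =>
    obtain ⟨h, hh, e⟩ := ih
    exact ⟨xg certE6C a.1 a.2 * h, mul_mem (xg_mem_group certE6C _ _) hh, by
      rw [Units.val_mul, coe_xg, e]; simp [ChevalleyDatum.wordMat]⟩

end Cfsg.Lib.Chev.E6Alt
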