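import Cfsg.Agent.Lib.Chev.E6Alt.Torus
import Cfsg.Agent.Lib.Chev.E6Alt.Lift
import Cfsg.Agent.Lib.Chev.E6Cubic.Form
import Cfsg.Agent.Lib.Chev.Presentation.Steinberg

/-!
A section of a subgroup centralising the central torus of a Levi subgroup of type D5 acts on ten coordinates
of the module of dimension twenty-seven.
-/

set_option autoImplicit false
set_option linter.unusedSectionVars false
set_option maxRecDepth 100000

namespace Cfsg.Lib.Chev.E6Alt

open Cfsg.Lie Matrix
open Cfsg.Lib.Chev.E6Cubic (ix cd cd_lt cd_ix ix_cd eL okL okL_eL toM e6E repOK smulL okL_smulL toM_mul toM_append)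
open Cfsg.Lib.Linear.AltDeg (rootPow rootPow_add rootPow_injective rootPow_ne_zero normal_top_of alt_noncomm)

variable {F : Type*} [Field F]

local notation "C₆" => certE6C

/-- The Steinberg group of type E6. -/
abbrev St6 (F : Type*) [Field F] := chevE6.SteinbergGroup F

/-- The adjoint and the twenty-seven dimensional images. -/
noncomputable def both (F : Type*) [Field F] : St6 F →* GL chevE6.Idx F × GL I27 F :=
  (stHom certE6C fullCertE6.comm (F := F)).prod (MatRep.repHom repOK)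

theorem stHom_xg {r : ℕ} (hr : r < 72) (t : F) :
    stHom certE6C fullCertE6.comm (F := F) (chevE6.stGen F r t) = xg certE6C r t :=
  stHom_gen certE6C fullCertE6.comm hr t

theorem both_fst_mem (s : St6 F) : (both F s).1 ∈ chevE6.group F :=
  (stHom_range certE6C fullCertE6 _ fun _ hr t => stHom_xg hr t).le ⟨s, rfl⟩

theorem exists_both {g : GL chevE6.Idx F} (hg : g ∈ chevE6.group F) : ∃ s, (both F s).1 = g :=
  (stHom_range certE6C fullCertE6 _ fun _ hr t => stHom_xg hr t).ge hg

/-- Elements over the identity act centrally. -/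
theorem central_of_fst {m : GL I27 F} (h : (1, m) ∈ (both F).range) {n : GL chevE6.Idx F × GL I27 F}
    (hn : n ∈ (both F).range) : m * n.2 = n.2 * m := by
  obtain ⟨s, hs⟩ := h
  obtain ⟨t, rfl⟩ := hn
  have hs1 : stHom certE6C fullCertE6.comm (F := F) s = 1 := congrArg Prod.fst hs
  have hc := (st_ker_le certE6C fullCertE6 (by decide +kernel) _ (fun _ hr t => stHom_xg hr t) hs1).2
  have e : m = MatRep.repHom repOK s := (congrArg Prod.snd hs).symm
  rw [e, show (both F t).2 = MatRep.repHom repOK t from rfl, ← map_mul, ← map_mul,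
    Subgroup.mem_center_iff.1 hc t]

theorem toM_apply_zero {a b : I27} : ∀ {l : List (ℕ × ℕ × ℤ)},
    (∀ p ∈ l, ¬ (ix p.1 = a ∧ ix p.2.1 = b)) → toM l a b = 0
  | [], _ => by simp [toM]
  | p :: l, h => by
    rw [show toM (p :: l) = Matrix.single (ix p.1) (ix p.2.1) p.2.2 + toM l from rfl, Matrix.add_apply,
      toM_apply_zero fun q hq => h q (List.mem_cons_of_mem _ hq), add_zero,
      Matrix.single_apply, if_neg (h p List.mem_cons_self)]

/-- A diagonal matrix with weights compatible with the roots scales the root elements. -/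
theorem diag_conj_gen {d : I27 → Fˣ} {f : ℕ → F} (hd : ∀ r < 72, ∀ p ∈ eL r,
    (d (ix p.1) : F) = f r * d (ix p.2.1)) {Δ : GL I27 F}
    (hΔ : (Δ : Matrix I27 I27 F) = Matrix.diagonal fun a => (d a : F)) {r : ℕ} (hr : r < 72) (t : F) :
    Δ * MatRep.repHom repOK (chevE6.stGen F r t) * Δ⁻¹ = MatRep.repHom repOK (chevE6.stGen F r (f r * t)) := by
  rw [mul_inv_eq_iff_eq_mul]
  refine Units.ext ?_
  rw [Units.val_mul, Units.val_mul, MatRep.repHom_gen repOK (show r < chevE6.nroots from hr),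
    MatRep.repHom_gen repOK (show r < chevE6.nroots from hr), MatRep.repX, MatRep.repX, hΔ]
  ext a b
  simp only [MatRep.mE, e6E, Matrix.diagonal_mul, Matrix.mul_diagonal, Matrix.add_apply, Matrix.smul_apply,
    RingHom.mapMatrix_apply, Matrix.map_apply, smul_eq_mul]
  by_cases h : ∀ p ∈ eL r, ¬ (ix p.1 = a ∧ ix p.2.1 = b)
  · rw [toM_apply_zero h, map_zero, mul_zero, mul_zero, add_zero]
    rcases eq_or_ne a b with rfl | hab
    · ring
    · simp [Matrix.one_apply_ne hab]
  · push Not at h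
    obtain ⟨p, hp, rfl, rfl⟩ := h
    rw [hd r hr p hp]
    rcases eq_or_ne (ix p.1) (ix p.2.1) with e | hab
    · have h1 := hd r hr p hp
      rw [e] at h1 ⊢
      have hf : f r = 1 := (mul_eq_right₀ (Units.ne_zero (d (ix p.2.1)))).1 h1.symm
      rw [hf]; ring
    · simp only [Matrix.one_apply_ne hab, zero_add]; ring

/-- A torus element and a compatible diagonal matrix normalise the pairs. -/
theorem both_conj {c : Fin chevE6.rank → Fˣ} {d : I27 → Fˣ}
    (hd : ∀ r < 72, ∀ p ∈ eL r, (d (ix p.1) : F) = chr tblE6 chevE6 (extend' c) r * d (ix p.2.1))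
    {Δ : GL I27 F} (hΔ : (Δ : Matrix I27 I27 F) = Matrix.diagonal fun a => (d a : F))
    (s : St6 F) :
    ((torusHom chevE6 tblE6 F c, Δ) : GL chevE6.Idx F × GL I27 F) * both F s *
      (torusHom chevE6 tblE6 F c, Δ)⁻¹ ∈ (both F).range := by
  have hs : s ∈ Subgroup.closure {s : St6 F | ∃ r t, r < chevE6.nroots ∧ s = chevE6.stGen F r t} := by
    have e := stGen_closure certE6C (F := F)
    exact e.ge (Subgroup.mem_top s)
  induction hs using Subgroup.closure_induction with
  | mem x hx =>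
    obtain ⟨r, t, hr, rfl⟩ := hx
    refine ⟨chevE6.stGen F r (chr tblE6 chevE6 (extend' c) r * t), Prod.ext ?_ ?_⟩
    · show stHom certE6C fullCertE6.comm _ = torusHom chevE6 tblE6 F c * stHom certE6C fullCertE6.comm _ * _
      rw [stHom_xg hr, stHom_xg hr]
      exact (conj_xg c hr t).symm
    · exact (diag_conj_gen hd hΔ hr t).symm
  | one => rw [map_one, mul_one, mul_inv_cancel]; exact one_mem _
  | mul a b _ _ ha hb =>
    rw [map_mul, show ∀ x y z : GL chevE6.Idx F × GL I27 F, x * (y * z) * x⁻¹ = x * y * x⁻¹ * (x * z * x⁻¹) from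
      fun x y z => by group]
    exact mul_mem ha hb
  | inv a _ ha =>
    rw [map_inv, show ∀ x y : GL chevE6.Idx F × GL I27 F, x * y⁻¹ * x⁻¹ = (x * y * x⁻¹)⁻¹ from
      fun x y => by group]
    exact inv_mem ha

/-! ### Weights -/

/-- Three times the value of the chosen cocharacter at a weight. -/
noncomputable def wz (a : I27) : ℤ := ∑ k : Fin 6, (wtL.getD (cd a) []).getD k 0 * zV k

/-- The exponent of the chosen element at a weight. -/
noncomputable def wx (a : I27) : ZMod 5 := 2 * ∑ k : Fin 6, ((wtL.getD (cd a) []).getD k 0 : ℤ) * x₀ k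

theorem weight_chk : ∀ r < 72, ∀ p ∈ eL r, wz (ix p.1) = 3 * val zV r + wz (ix p.2.1) ∧
    wx (ix p.1) = val x₀ r + wx (ix p.2.1) := by decide +kernel

/-- The ten coordinates. -/
def tenL : List ℕ := [1, 4, 7, 9, 10, 15, 16, 24, 25, 26]

/-- The ten coordinates as a map. -/
def ten (i : Fin 10) : I27 := ix (tenL.getD i 0)

theorem ten_inj : Function.Injective ten := by decide +kernel

theorem ten_iff : ∀ a : I27, wz a = -2 ↔ ∃ i, ten i = a := by decide +kernel

theorem wz_vals : ∀ a : I27, wz a = -2 ∨ wz a = 1 ∨ wz a = 4 := by decide +kernel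

/-- The root elements at integral parameters as sparse matrices. -/
def sparseX (r : ℕ) (c : ℤ) : List (ℕ × ℕ × ℤ) :=
  ((List.range 27).map fun a => (a, a, (1 : ℤ))) ++ (eL r).map fun p => (p.1, p.2.1, c * p.2.2)

/-- A commutator of two root elements. -/
def sparseW : List (ℕ × ℕ × ℤ) :=
  smulL (smulL (smulL (sparseX 36 1) (sparseX 44 1)) (sparseX 36 (-1))) (sparseX 44 (-1))

theorem sparse_ok : okL (sparseX 36 1) = true ∧ okL (sparseX 44 1) = true ∧ okL (sparseX 36 (-1)) = true ∧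
    okL (sparseX 44 (-1)) = true := by decide +kernel

theorem sparseW_entry : toM sparseW (ix 15) (ix 1) = 1 ∧ wx (ix 15) ≠ wx (ix 1) ∧ wz (ix 15) = -2 ∧
    wz (ix 1) = -2 := by decide +kernel

theorem toM_one : toM ((List.range 27).map fun a => (a, a, (1 : ℤ))) = 1 := by decide +kernel

theorem coe_sparseX {r : ℕ} (hr : r < 72) (c : ℤ) :
    ((MatRep.repHom repOK (chevE6.stGen F r (c : F)) : GL I27 F) : Matrix I27 I27 F) =
      (Int.castRingHom F).mapMatrix (toM (sparseX r c)) := by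
  rw [MatRep.repHom_gen repOK (show r < chevE6.nroots from hr), MatRep.repX, MatRep.mE, sparseX, toM_append, toM_one,
    map_add, map_one, show ((eL r).map fun p => (p.1, p.2.1, c * p.2.2)) = E6Cubic.scaleL c (eL r) from rfl,
    ← E6Cubic.toM_smul, map_zsmul, ← Int.cast_smul_eq_zsmul F, e6E]

/-- The bound. -/
theorem ten_bound [Fintype F] (p : ℕ) [Fact p.Prime] [CharP F p] (hp : ¬ p ∣ 12)
    {l : Fˣ} (hl : orderOf l = 25) {ζ : F} (hζ : IsPrimitiveRoot ζ 5)
    {H : Type*} [Group H] [Finite H] (π : H →* A12) (hπ : Function.Surjective π)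
    (hmin : ∀ M : Subgroup H, M.map π = ⊤ → M = ⊤) (f : H →* ↥(chevE6.group F))
    {cz : Fin chevE6.rank → Fˣ} (hcz : ∀ r < 72, chr tblE6 chevE6 (extend' cz) r = (l : F) ^ (3 * val zV r))
    (hz : ∀ h, torusHom chevE6 tblE6 F cz * (f h : GL chevE6.Idx F) = (f h : GL chevE6.Idx F) * torusHom chevE6 tblE6 F cz)
    {x : H} {cx : Fin chevE6.rank → Fˣ} (hx : (f x : GL chevE6.Idx F) = torusHom chevE6 tblE6 F cx)
    (hcx : HasVec ζ cx x₀) : False := by
  classical
  haveI : Fact (Nat.Prime 5) := ⟨by norm_num⟩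
  let L₀ : Subgroup (H × GL I27 F) :=
    (both F).range.comap (((chevE6.group F).subtype.comp f).prodMap (MonoidHom.id _))
  let q : L₀ →* H := (MonoidHom.fst _ _).comp L₀.subtype
  have hq : Function.Surjective q := fun h => by
    obtain ⟨s, hs⟩ := exists_both (f h).2
    exact ⟨⟨(h, (both F s).2), ⟨s, Prod.ext hs rfl⟩⟩, rfl⟩
  haveI : Finite (H × GL I27 F) := inferInstance
  obtain ⟨L, hLtop, htop⟩ := exists_minimal_cover (π.comp q) (hπ.comp hq)
  let φ : ↥L →* A12 := (π.comp q).comp L.subtype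
  have hφ : Function.Surjective φ := fun a => by
    obtain ⟨y, hy, e⟩ := (hLtop.ge (Subgroup.mem_top a))
    exact ⟨⟨y, hy⟩, e⟩
  have hLq : ∀ h : H, ∃ y : ↥L, (y : L₀).1.1 = h := fun h => by
    have : (L.map q) = ⊤ := hmin _ (by rw [Subgroup.map_map]; exact hLtop)
    obtain ⟨y, hy, e⟩ := this.ge (Subgroup.mem_top h)
    exact ⟨⟨y, hy⟩, e⟩
  let μ : ↥L →* GL I27 F := (MonoidHom.snd _ _).comp (L₀.subtype.comp L.subtype)
  have hμ : ∀ y : ↥L, (((f (y : L₀).1.1 : GL chevE6.Idx F)), μ y) ∈ (both F).range := fun y => (y : L₀).2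
  -- the diagonal matrices
  let dz : I27 → Fˣ := fun a => l ^ wz a
  let Δ : GL I27 F :=
    ⟨Matrix.diagonal fun a => (dz a : F), Matrix.diagonal fun a => ((dz a)⁻¹ : Fˣ),
      by rw [Matrix.diagonal_mul_diagonal]; simp, by rw [Matrix.diagonal_mul_diagonal]; simp⟩
  have hdz : ∀ r < 72, ∀ p ∈ eL r, (dz (ix p.1) : F) = chr tblE6 chevE6 (extend' cz) r * dz (ix p.2.1) :=
    fun r hr p hp => by
      simp only [dz, (weight_chk r hr p hp).1, Units.val_zpow_eq_zpow_val, zpow_add₀ (Units.ne_zero l), hcz r hr]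
  have hd : ∀ y : ↥L, ((1 : GL chevE6.Idx F), Δ * μ y * Δ⁻¹ * (μ y)⁻¹) ∈ (both F).range := fun y => by
    obtain ⟨s, hs⟩ := hμ y
    have h1 := both_conj hdz (Δ := Δ) rfl s
    rw [hs] at h1
    have h2 := mul_mem h1 (inv_mem (hμ y))
    convert h2 using 1
    refine Prod.ext ?_ rfl
    show (1 : GL chevE6.Idx F) = _ * _ * _ * _
    simp only [Prod.fst_inv]
    rw [hz, mul_inv_cancel_right, mul_inv_cancel]
  let Kc : Subgroup (GL I27 F) := (both F).range.comap (MonoidHom.inr _ _)
  letI : CommGroup Kc :=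
    { (inferInstance : Group Kc) with
      mul_comm := fun a b => Subtype.ext (central_of_fst a.2 (n := (1, (b : GL I27 F))) b.2) }
  let χ : ↥L →* Kc :=
    { toFun := fun y => ⟨Δ * μ y * Δ⁻¹ * (μ y)⁻¹, hd y⟩
      map_one' := Subtype.ext (by simp)
      map_mul' := fun a b => Subtype.ext (by
        show Δ * μ (a * b) * Δ⁻¹ * (μ (a * b))⁻¹ =
          Δ * μ a * Δ⁻¹ * (μ a)⁻¹ * (Δ * μ b * Δ⁻¹ * (μ b)⁻¹)
        have hc := central_of_fst (hd b) (hμ a)
        simp only at hc
        rw [map_mul, _root_.mul_inv_rev,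
          show Δ * (μ a * μ b) * Δ⁻¹ * ((μ b)⁻¹ * (μ a)⁻¹) =
            Δ * μ a * Δ⁻¹ * ((Δ * μ b * Δ⁻¹ * (μ b)⁻¹) * (μ a)⁻¹) by group,
          (Commute.inv_right (show Commute (Δ * μ b * Δ⁻¹ * (μ b)⁻¹) (μ a) from hc)).eq]
        group) }
  have hχ : χ.ker = ⊤ := by
    refine normal_top_of hφ htop (by norm_num) _ fun hle => ?_
    obtain ⟨a, b, hab⟩ := alt_noncomm (r := 12) (by norm_num)
    obtain ⟨u, rfl⟩ := hφ a
    obtain ⟨v, rfl⟩ := hφ b
    refine hab ?_
    have hm : u * v * u⁻¹ * v⁻¹ ∈ φ.ker := hle (by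
      rw [MonoidHom.mem_ker, map_mul, map_mul, map_mul, map_inv, map_inv, mul_comm (χ u) (χ v),
        mul_inv_cancel_right, mul_inv_cancel])
    rw [MonoidHom.mem_ker, map_mul, map_mul, map_mul, map_inv, map_inv] at hm
    exact mul_inv_eq_iff_eq_mul.1 (mul_inv_eq_one.1 hm)
  have hsupp : ∀ (y : ↥L) (a b : I27), wz a ≠ wz b →
      ((μ y : GL I27 F) : Matrix I27 I27 F) a b = 0 := by
    intro y a b hab
    have h1 : Δ * μ y * Δ⁻¹ * (μ y)⁻¹ = 1 :=
      congrArg Subtype.val (MonoidHom.mem_ker.1 (hχ.ge (Subgroup.mem_top y)))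
    rw [mul_inv_eq_one, mul_inv_eq_iff_eq_mul] at h1
    have h2 := congrArg (fun g : GL I27 F => (g : Matrix I27 I27 F) a b) h1
    simp only [Units.val_mul, Δ, Matrix.diagonal_mul, Matrix.mul_diagonal] at h2
    by_contra hne
    have h3 : dz a = dz b := Units.ext (mul_left_cancel₀ hne (by rw [← h2]; ring))
    simp only [dz, zpow_eq_zpow_iff_modEq, hl] at h3
    rcases wz_vals a with e | e | e <;> rcases wz_vals b with e' | e' | e' <;>
      rw [e, e'] at h3 <;> first | exact hab (e.trans e'.symm) | exact absurd h3 (by decide)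
  -- the ten-dimensional representation
  let ψ₀ : ↥L →* Matrix (Fin 10) (Fin 10) F :=
    { toFun := fun y => ((μ y : GL I27 F) : Matrix I27 I27 F).submatrix ten ten
      map_one' := by rw [map_one, Units.val_one, Matrix.submatrix_one _ ten_inj]
      map_mul' := fun a b => by
        ext i j
        rw [map_mul, Units.val_mul, Matrix.submatrix_apply, Matrix.mul_apply, Matrix.mul_apply]
        refine (Finset.sum_of_injOn ten ten_inj.injOn (fun _ _ => Finset.mem_coe.2 (Finset.mem_univ _))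
          (fun c _ hc => ?_) fun k _ => rfl).symm
        rw [hsupp a (ten i) c fun e => hc ?_, zero_mul]
        obtain ⟨k, hk⟩ := (ten_iff c).1 (by rw [← e]; exact (ten_iff (ten i)).2 ⟨i, rfl⟩)
        exact ⟨k, Finset.mem_coe.2 (Finset.mem_univ _), hk⟩ }
  let ψ : ↥L →* GL (Fin 10) F := ψ₀.toHomUnits
  by_cases hk : ψ.ker ≤ φ.ker
  · have := linear_section p φ hφ ψ hk
    rw [if_neg hp] at this
    omega
  · have hψ : ψ.ker = ⊤ := normal_top_of hφ htop (by norm_num) _ hk
    obtain ⟨y, hy⟩ := hLq x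
    have hblock : ∀ i j, ((μ y⁻¹ : GL I27 F) : Matrix I27 I27 F) (ten i) (ten j) =
        if i = j then 1 else 0 := fun i j => by
      have h1 : ψ₀ y⁻¹ = 1 := congrArg Units.val (MonoidHom.mem_ker.1 (hψ.ge (Subgroup.mem_top y⁻¹)))
      have h2 := congrFun (congrFun h1 i) j
      rwa [Matrix.one_apply] at h2
    let dx : I27 → Fˣ := fun a => Units.mk0 (rootPow ζ (wx a)) (rootPow_ne_zero hζ _)
    let Δx : GL I27 F :=
      ⟨Matrix.diagonal fun a => (dx a : F), Matrix.diagonal fun a => ((dx a)⁻¹ : Fˣ),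
        by rw [Matrix.diagonal_mul_diagonal]; simp, by rw [Matrix.diagonal_mul_diagonal]; simp⟩
    have hdx : ∀ r < 72, ∀ p ∈ eL r, (dx (ix p.1) : F) = chr tblE6 chevE6 (extend' cx) r * dx (ix p.2.1) :=
      fun r hr p hp => by
        simp only [dx, Units.val_mk0, (weight_chk r hr p hp).2, hcx r hr, rootPow_add hζ]
    obtain ⟨c, hc⟩ : ∃ c, c = μ y⁻¹ * Δx := ⟨_, rfl⟩
    have hcm : ∀ s : St6 F, (1, c * (both F s).2 * c⁻¹ * ((both F s).2)⁻¹) ∈ (both F).range := fun s => by
      have h1 := hμ y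
      rw [hy, hx] at h1
      obtain ⟨s'', hs''⟩ := both_conj hdx (Δ := Δx) rfl s
      have h3 := mul_mem (mul_mem (mul_mem (inv_mem h1) ⟨s'', hs''⟩) h1)
        (inv_mem (show both F s ∈ (both F).range from ⟨s, rfl⟩))
      convert h3 using 1
      refine Prod.ext ?_ ?_
      · simp only [Prod.fst_mul, Prod.fst_inv]
        group
      · simp only [Prod.snd_mul, Prod.snd_inv, hc, map_inv]
        group
    -- a commutator of root elements
    obtain ⟨A, hA⟩ : ∃ A : GL I27 F, A = (both F (chevE6.stGen F 36 1)).2 := ⟨_, rfl⟩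
    obtain ⟨B, hB⟩ : ∃ B : GL I27 F, B = (both F (chevE6.stGen F 44 1)).2 := ⟨_, rfl⟩
    obtain ⟨k, hk'⟩ : ∃ k, k = c * A * c⁻¹ * A⁻¹ := ⟨_, rfl⟩
    obtain ⟨k', hk''⟩ : ∃ k, k = c * B * c⁻¹ * B⁻¹ := ⟨_, rfl⟩
    have hkR := hcm (chevE6.stGen F 36 1)
    have hkR' := hcm (chevE6.stGen F 44 1)
    rw [← hA, ← hk'] at hkR
    rw [← hB, ← hk''] at hkR'
    have a1 : Commute k A := hA ▸ central_of_fst hkR (n := both F _) ⟨_, rfl⟩
    have a2 : Commute k B := hB ▸ central_of_fst hkR (n := both F _) ⟨_, rfl⟩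
    have a3 : Commute k' A := hA ▸ central_of_fst hkR' (n := both F _) ⟨_, rfl⟩
    have a4 : Commute k' B := hB ▸ central_of_fst hkR' (n := both F _) ⟨_, rfl⟩
    have a5 : Commute k k' := central_of_fst hkR (n := (1, k')) hkR'
    have hcW : c * (A * B * A⁻¹ * B⁻¹) = A * B * A⁻¹ * B⁻¹ * c := by
      have e1 : c * A * c⁻¹ = k * A := by rw [hk']; group
      have e2 : c * B * c⁻¹ = k' * B := by rw [hk'']; group
      rw [← mul_inv_eq_iff_eq_mul,
        show c * (A * B * A⁻¹ * B⁻¹) * c⁻¹ = (c * A * c⁻¹) * (c * B * c⁻¹) * (c * A * c⁻¹)⁻¹ * (c * B * c⁻¹)⁻¹ by group,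
        e1, e2, _root_.mul_inv_rev, _root_.mul_inv_rev]
      calc k * A * (k' * B) * (A⁻¹ * k⁻¹) * (B⁻¹ * k'⁻¹)
          = k * (A * k') * B * A⁻¹ * (k⁻¹ * B⁻¹) * k'⁻¹ := by group
        _ = k * (k' * A) * B * A⁻¹ * (B⁻¹ * k⁻¹) * k'⁻¹ := by rw [a3.eq, a2.inv_inv.eq]
        _ = (k * k') * (A * B * A⁻¹ * B⁻¹) * (k⁻¹ * k'⁻¹) := by group
        _ = (A * B * A⁻¹ * B⁻¹) * (k * k') * (k⁻¹ * k'⁻¹) := by
            rw [(((a1.mul_left a3).mul_right (a2.mul_left a4)).mul_right (a1.mul_left a3).inv_right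
              |>.mul_right (a2.mul_left a4).inv_right).eq]
        _ = A * B * A⁻¹ * B⁻¹ := by rw [a5.eq]; group
    obtain ⟨h15, hne, hz15, hz1⟩ := sparseW_entry
    have hW : ((A * B * A⁻¹ * B⁻¹ : GL I27 F) : Matrix I27 I27 F) (ix 15) (ix 1) = 1 := by
      have e1 : A⁻¹ = MatRep.repHom repOK (chevE6.stGen F 36 ((-1 : ℤ) : F)) := by
        refine inv_eq_of_mul_eq_one_right ?_
        refine Units.ext ?_
        rw [hA, show (both F (chevE6.stGen F 36 1)).2 = MatRep.repHom repOK (chevE6.stGen F 36 1) from rfl,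
          Units.val_mul, MatRep.repHom_gen repOK (show 36 < chevE6.nroots by decide),
          MatRep.repHom_gen repOK (show 36 < chevE6.nroots by decide),
          MatRep.repX_mul repOK (show 36 < chevE6.nroots by decide)]
        simp [MatRep.repX_zero repOK]
      have e2 : B⁻¹ = MatRep.repHom repOK (chevE6.stGen F 44 ((-1 : ℤ) : F)) := by
        refine inv_eq_of_mul_eq_one_right ?_
        refine Units.ext ?_
        rw [hB, show (both F (chevE6.stGen F 44 1)).2 = MatRep.repHom repOK (chevE6.stGen F 44 1) from rfl,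
          Units.val_mul, MatRep.repHom_gen repOK (show 44 < chevE6.nroots by decide),
          MatRep.repHom_gen repOK (show 44 < chevE6.nroots by decide),
          MatRep.repX_mul repOK (show 44 < chevE6.nroots by decide)]
        simp [MatRep.repX_zero repOK]
      obtain ⟨o1, o2, o3, o4⟩ := sparse_ok
      rw [e1, e2, Units.val_mul, Units.val_mul, Units.val_mul, hA, hB,
        show (both F (chevE6.stGen F 36 1)).2 = MatRep.repHom repOK (chevE6.stGen F 36 ((1 : ℤ) : F)) by
          rw [Int.cast_one]; rfl,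
        show (both F (chevE6.stGen F 44 1)).2 = MatRep.repHom repOK (chevE6.stGen F 44 ((1 : ℤ) : F)) by
          rw [Int.cast_one]; rfl,
        coe_sparseX (by norm_num), coe_sparseX (by norm_num), coe_sparseX (by norm_num), coe_sparseX (by norm_num),
        ← map_mul, ← map_mul, ← map_mul, toM_mul o1 o2, toM_mul (okL_smulL o1 o2) o3,
        toM_mul (okL_smulL (okL_smulL o1 o2) o3) o4]
      show ((toM sparseW (ix 15) (ix 1) : ℤ) : F) = 1
      rw [h15, Int.cast_one]
    -- the action on the block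
    obtain ⟨i, hi⟩ := (ten_iff _).1 hz15
    obtain ⟨j, hj⟩ := (ten_iff _).1 hz1
    have hcval : ∀ a b : I27, wz a = -2 ∨ wz b = -2 →
        (c : Matrix I27 I27 F) a b = if a = b then (dx a : F) else 0 := by
      intro a b hab
      rw [hc, Units.val_mul]
      show ((μ y⁻¹ : Matrix I27 I27 F) * (Matrix.diagonal fun a => (dx a : F)) : Matrix I27 I27 F) a b = _
      rw [Matrix.mul_diagonal]
      by_cases hw : wz a = wz b
      · obtain ⟨i', rfl⟩ := (ten_iff a).1 (by rcases hab with h | h <;> omega)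
        obtain ⟨j', rfl⟩ := (ten_iff b).1 (by rcases hab with h | h <;> omega)
        rw [hblock]
        by_cases e : i' = j'
        · simp [e]
        · rw [if_neg e, zero_mul, if_neg fun h => e (ten_inj h)]
      · rw [hsupp y⁻¹ a b hw, zero_mul, if_neg fun e => hw (by rw [e])]
    have h1 := congrArg (fun g : GL I27 F => (g : Matrix I27 I27 F) (ix 15) (ix 1)) hcW
    simp only [Units.val_mul] at h1
    rw [← Units.val_mul, ← Units.val_mul, ← Units.val_mul] at h1
    rw [Matrix.mul_apply, Matrix.mul_apply,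
      Finset.sum_eq_single (ix 15) (fun b _ hb => by
        rw [hcval _ _ (Or.inl hz15), if_neg (Ne.symm hb), zero_mul]) (fun h => absurd (Finset.mem_univ _) h),
      Finset.sum_eq_single (ix 1) (fun b _ hb => by
        rw [hcval _ _ (Or.inr hz1), if_neg hb, mul_zero]) (fun h => absurd (Finset.mem_univ _) h),
      hcval _ _ (Or.inl hz15), hcval _ _ (Or.inl hz1), if_pos rfl, if_pos rfl, hW, mul_one, one_mul] at h1
    exact hne (rootPow_injective hζ h1)

end Cfsg.Lib.Chev.E6Alt
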