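import Cfsg.Agent.Lib.Chev.E6Alt.Class
import Cfsg.Agent.Lib.Chev.InvCent
import Cfsg.Agent.Lib.Chev.WeakClosed
import Cfsg.Agent.Lib.Chev.AltSection.Torus
import Cfsg.Agent.Lib.Chev.OrderE6
import Cfsg.Agent.Lib.PGroup.Basic
import Cfsg.Agent.Lib.Linear.AltDeg.Weights

/-!
Elements of five-power order of the Chevalley group of type E6 and the diagonal subgroup: exponents, fusion,
centralisers and conjugation into the diagonal subgroup.
-/

set_option autoImplicit false
set_option linter.unusedSectionVars false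
set_option maxRecDepth 100000

namespace Cfsg.Lib.Chev.E6Alt

open Cfsg.Lie Finset
open Cfsg.Lib.Linear.AltDeg (rootPow rootPow_add rootPow_injective rootPow_pow rootPow_ne_zero)

variable {F : Type*} [Field F]

local notation "tH" => torusHom chevE6 tblE6 F
local notation "χ[" c "]" => chr tblE6 chevE6 (extend' c)

theorem cert6 : Cert chevE6 tblE6 := certE6C

theorem cart_lin : ∀ j < 6, ∀ r < 72,
    tblE6.cartan j r = ∑ k : Fin 6, co6 r k * tblE6.cartan j (tblE6.simp' k) := by decide +kernel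

theorem chr_coroot (c : Fin chevE6.rank → Fˣ) {r : ℕ} (hr : r < 72) :
    χ[c] r = ∏ k : Fin 6, χ[c] (tblE6.simp' k) ^ co6 r k := by
  simp only [chr]
  rw [Finset.prod_congr rfl fun k (_ : k ∈ (Finset.univ : Finset (Fin 6))) => (Finset.prod_zpow _ _ _).symm,
    Finset.prod_comm]
  refine Finset.prod_congr rfl fun j hj => ?_
  have hj' : j < 6 := Finset.mem_range.1 hj
  rw [cart_lin j hj' r hr]
  have hne := extend'_ne c j
  generalize extend' c j = x at hne
  induction (Finset.univ : Finset (Fin 6)) using Finset.induction with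
  | empty => simp
  | insert a s ha ih => rw [Finset.sum_insert ha, Finset.prod_insert ha, zpow_add₀ hne, ih, ← zpow_mul,
      mul_comm (co6 r a)]

theorem tH_ext {c c' : Fin chevE6.rank → Fˣ} (h : ∀ k : Fin 6, χ[c] (tblE6.simp' k) = χ[c'] (tblE6.simp' k)) :
    tH c = tH c' :=
  torusHom_congr fun r hr => by rw [chr_coroot c hr, chr_coroot c' hr]; simp only [h]

theorem conj_xg (c : Fin chevE6.rank → Fˣ) {r : ℕ} (hr : r < 72) (t : F) :
    tH c * xg certE6C r t * (tH c)⁻¹ = xg certE6C r (χ[c] r * t) := torusHom_conj_xg certE6C c hr t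

theorem chr_unique {c c' : Fin chevE6.rank → Fˣ} (h : tH c = tH c') {r : ℕ} (hr : r < 72) :
    χ[c] r = χ[c'] r := by
  have h1 := conj_xg c hr (1 : F)
  rw [h, conj_xg c' hr, mul_one, mul_one] at h1
  exact (xg_injective certE6C hr h1).symm

theorem exists_par {t : GL chevE6.Idx F} (ht : t ∈ chevE6.diagonalSubgroup F) : ∃ c, t = tH c := by
  rw [← torusHom_range certE6C] at ht
  exact ⟨_, ht.choose_spec.symm⟩

/-- One word describes every fusion induced by an element. -/
theorem exists_fusion_word {g : GL chevE6.Idx F} (hg : g ∈ chevE6.group F) :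
    ∃ w, IsWord chevE6 w ∧ ∀ c e : Fin chevE6.rank → Fˣ, g * tH c * g⁻¹ = tH e →
      ∀ r < 72, χ[e] (wperm tblE6 w r) = χ[c] r := by
  obtain ⟨n, hn, hfus⟩ := Cfsg.Lib.Chev.G2Alt.torus_fusion certE6C fullCertE6 hg
  obtain ⟨w, hw, h, hh, rfl⟩ := (mem_monomial certE6C).1 hn
  refine ⟨w, hw, fun c e he r hr => ?_⟩
  have hc : tH c ∈ chevE6.diagonalSubgroup F := by rw [← torusHom_range certE6C]; exact ⟨c, rfl⟩
  have hd : g * tH c * g⁻¹ ∈ chevE6.diagonalSubgroup F := by rw [he, ← torusHom_range certE6C]; exact ⟨e, rfl⟩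
  have h1 := hfus _ hc hd
  rw [he, show wnu certE6C F w * h * tH c * (wnu certE6C F w * h)⁻¹ =
    wnu certE6C F w * (h * tH c * h⁻¹) * (wnu certE6C F w)⁻¹ by group,
    Cfsg.Lib.Chev.G2Alt.diag_commute certE6C hh hc, mul_inv_cancel_right] at h1
  obtain ⟨e', he', hchr⟩ := torus_word_conj certE6C hw c
  rw [he'] at h1
  rw [chr_unique h1 (wperm_lt certE6C hw hr), hchr r hr]

/-! ### Exponents -/

/-- The exponents of a torus element. -/
def HasVec {ℓ : ℕ} [NeZero ℓ] (ζ : F) (c : Fin chevE6.rank → Fˣ) (v : Fin 6 → ZMod ℓ) : Prop :=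
  ∀ r < 72, χ[c] r = rootPow ζ (val v r)

variable {ℓ : ℕ} [hℓ : Fact ℓ.Prime] {ζ : F}

theorem hasVec_of_simple (hζ : IsPrimitiveRoot ζ ℓ) {c : Fin chevE6.rank → Fˣ} {v : Fin 6 → ZMod ℓ}
    (h : ∀ k : Fin 6, χ[c] (tblE6.simp' k) = rootPow ζ (v k)) : HasVec ζ c v := by
  intro r hr
  rw [chr_coroot c hr]
  simp only [h, val]
  induction (Finset.univ : Finset (Fin 6)) using Finset.induction with
  | empty => simp [rootPow]
  | insert a s ha ih =>
    rw [Finset.prod_insert ha, Finset.sum_insert ha, rootPow_add hζ, ih]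
    refine congrArg₂ _ ?_ rfl
    obtain ⟨n, hn | hn⟩ := Int.eq_nat_or_neg (co6 r a)
    · rw [hn, zpow_natCast, Int.cast_natCast]
      clear hn
      induction n with
      | zero => simp [rootPow]
      | succ n ihn => rw [pow_succ, ihn, Nat.cast_succ, add_mul, one_mul, rootPow_add hζ]
    · rw [hn, zpow_neg, zpow_natCast, Int.cast_neg, Int.cast_natCast, neg_mul]
      refine inv_eq_of_mul_eq_one_right ?_
      have e : rootPow ζ (v a) ^ n = rootPow ζ ((n : ZMod ℓ) * v a) := by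
        clear hn
        induction n with
        | zero => simp [rootPow]
        | succ n ihn => rw [pow_succ, ihn, Nat.cast_succ, add_mul, one_mul, rootPow_add hζ]
      rw [e, ← rootPow_add hζ, add_neg_cancel]
      simp [rootPow]

theorem exists_vec (hζ : IsPrimitiveRoot ζ ℓ) {c : Fin chevE6.rank → Fˣ} (h : tH c ^ ℓ = 1) :
    ∃ v : Fin 6 → ZMod ℓ, HasVec ζ c v := by
  have h1 : ∀ k : Fin 6, χ[c] (tblE6.simp' k) ^ ℓ = 1 := fun k => by
    have hr : tblE6.simp' k < 72 := certE6C.spec.simp_lt k k.2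
    have hcp : ∀ n : ℕ, tH c ^ n * xg certE6C (tblE6.simp' k) (1 : F) * (tH c ^ n)⁻¹ =
        xg certE6C (tblE6.simp' k) (χ[c] (tblE6.simp' k) ^ n) := by
      intro n
      induction n with
      | zero => simp
      | succ n ih =>
        rw [pow_succ', show tH c * tH c ^ n * xg certE6C (tblE6.simp' k) (1 : F) * (tH c * tH c ^ n)⁻¹ =
          tH c * (tH c ^ n * xg certE6C (tblE6.simp' k) (1 : F) * (tH c ^ n)⁻¹) * (tH c)⁻¹ by group, ih, conj_xg c hr,
          pow_succ']
    have := hcp ℓ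
    rw [h, one_mul, inv_one, mul_one] at this
    exact (xg_injective certE6C hr this).symm
  choose v hv using fun k => hζ.eq_pow_of_pow_eq_one (h1 k)
  exact ⟨fun k => (v k : ZMod ℓ), hasVec_of_simple hζ fun k => by
    rw [rootPow, ZMod.val_natCast, Nat.mod_eq_of_lt (hv k).1, (hv k).2]⟩

theorem HasVec.unique (hζ : IsPrimitiveRoot ζ ℓ) {c : Fin chevE6.rank → Fˣ} {v v' : Fin 6 → ZMod ℓ}
    (h : HasVec ζ c v) (h' : HasVec ζ c v') : v = v' := funext fun k => by
  have hr : tblE6.simp' k < 72 := certE6C.spec.simp_lt k k.2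
  have e := (h _ hr).symm.trans (h' _ hr)
  rw [val_simp, val_simp] at e
  exact rootPow_injective hζ e

theorem HasVec.act (hζ : IsPrimitiveRoot ζ ℓ) {c e : Fin chevE6.rank → Fˣ} {v v' : Fin 6 → ZMod ℓ} {w : List ℕ}
    (hw : IsWord chevE6 w) (hc : HasVec ζ c v) (he : HasVec ζ e v')
    (h : ∀ r < 72, χ[e] (wperm tblE6 w r) = χ[c] r) : act w v' = v := funext fun k => by
  have hr : tblE6.simp' k < 72 := certE6C.spec.simp_lt k k.2
  have e1 := h _ hr
  rw [hc _ hr, he _ (wperm_lt certE6C hw hr), val_simp] at e1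
  exact rootPow_injective hζ e1

theorem HasVec.sq (hζ : IsPrimitiveRoot ζ ℓ) {c : Fin chevE6.rank → Fˣ} {v : Fin 6 → ZMod ℓ}
    (hc : HasVec ζ c v) : HasVec ζ (c * c) ((2 : ZMod ℓ) • v) := fun r hr => by
  have hm : χ[c * c] r = χ[c] r * χ[c] r := by
    simp only [chr, ← Finset.prod_mul_distrib]
    refine Finset.prod_congr rfl fun j _ => ?_
    unfold extend'
    split_ifs <;> simp [mul_zpow]
  rw [hm, hc r hr, val_smul, two_mul, rootPow_add hζ]

/-- A word carries a vector doubled by conjugation to its multiple. -/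
theorem exists_word_of_sq (hζ : IsPrimitiveRoot ζ ℓ) {half : ZMod ℓ} (hh : half * 2 = 1) {g : GL chevE6.Idx F}
    (hg : g ∈ chevE6.group F) {c : Fin chevE6.rank → Fˣ} {v : Fin 6 → ZMod ℓ} (hc : HasVec ζ c v)
    (h : g * tH c * g⁻¹ = tH c ^ 2) :
    ∃ w, IsWord chevE6 w ∧ E6Alt.act w v = half • v ∧
      ∀ c' e, g * tH c' * g⁻¹ = tH e → ∀ r < 72, χ[e] (wperm tblE6 w r) = χ[c'] r := by
  obtain ⟨w, hw, hfus⟩ := exists_fusion_word hg
  have h2 := hfus c (c * c) (by rw [h, map_mul, pow_two])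
  refine ⟨w, hw, ?_, hfus⟩
  have := HasVec.act hζ hw hc (hc.sq hζ) h2
  funext k
  have hk := congrFun this k
  simp only [Pi.smul_apply, smul_eq_mul, E6Alt.act, val_smul] at hk ⊢
  rw [← hk, ← mul_assoc, hh, one_mul]

theorem HasVec.word_conj (hζ : IsPrimitiveRoot ζ ℓ) {c e : Fin chevE6.rank → Fˣ} {v v' : Fin 6 → ZMod ℓ}
    {u : List ℕ} (hu : IsWord chevE6 u) (hc : HasVec ζ c v) (hv : E6Alt.act u v = v')
    (he : (wnu certE6C F u)⁻¹ * tH c * wnu certE6C F u = tH e) : HasVec ζ e v' := by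
  obtain ⟨e', he', hchr⟩ := torus_word_conj certE6C hu e
  have h1 : tH e' = tH c := by rw [← he', ← he]; group
  intro r hr
  rw [← hv, val_act hu v hr, ← hc _ (wperm_lt certE6C hu hr), ← chr_unique h1 (wperm_lt certE6C hu hr), hchr r hr]

theorem word_conj_diag {u : List ℕ} (hu : IsWord chevE6 u) {t : GL chevE6.Idx F}
    (ht : t ∈ chevE6.diagonalSubgroup F) :
    (wnu certE6C F u)⁻¹ * t * wnu certE6C F u ∈ chevE6.diagonalSubgroup F :=
  (conj_mem_diag certE6C (wnu_mem certE6C hu) ht).2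

/-- An element centralising a torus element centralises every torus element with smaller root kernel fixed by
the stabiliser. -/
theorem comm_of_cent {c e : Fin chevE6.rank → Fˣ} (hr1 : ∀ r < 72, χ[c] r = 1 → χ[e] r = 1)
    (hw1 : ∀ w, IsWord chevE6 w → (∀ r < 72, χ[c] (wperm tblE6 w r) = χ[c] r) →
      ∀ r < 72, χ[e] (wperm tblE6 w r) = χ[e] r)
    {g : GL chevE6.Idx F} (hg : g ∈ chevE6.group F) (hcg : tH c * g = g * tH c) : tH e * g = g * tH e := by
  obtain ⟨w, hw, hwc, u, hu, d, hd, s, hs, -, rfl⟩ := cent_decomp certE6C fullCertE6 hg hcg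
  have hfix : ∀ x ∈ fixU certE6C c, Commute (tH e) x := by
    rintro _ ⟨t, ht, rfl⟩
    refine Commute.list_prod_right _ _ fun x hx => ?_
    obtain ⟨r, hr, rfl⟩ := List.mem_map.1 hx
    have hr72 : r < 72 := (List.mem_range'_1.1 hr).2
    refine mul_inv_eq_iff_eq_mul.1 ?_
    rw [conj_xg e hr72]
    by_cases h1 : χ[c] r = 1
    · rw [hr1 r hr72 h1, one_mul]
    · rw [ht r h1, mul_zero]
  have hd' : Commute (tH e) d := Cfsg.Lib.Chev.G2Alt.diag_commute certE6C
    (by rw [← torusHom_range certE6C]; exact ⟨e, rfl⟩) hd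
  have hw' : Commute (tH e) (wnu certE6C F w) := by
    obtain ⟨e', he', hchr⟩ := torus_word_conj certE6C hw e
    have : tH e' = tH e := torusHom_congr fun r hr => by
      have hr' : wperm tblE6 w.reverse r < 72 := wperm_lt certE6C hw.reverse hr
      have hrev : wperm tblE6 w (wperm tblE6 w.reverse r) = r := by
        have := wperm_reverse certE6C hw.reverse hr
        rwa [List.reverse_reverse] at this
      have a1 := hchr _ hr'
      have a2 := hw1 w hw hwc _ hr'
      rw [hrev] at a1 a2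
      rw [a1, a2]
    rw [this] at he'
    exact (mul_inv_eq_iff_eq_mul.1 he').symm
  exact (((hfix u hu).mul_right hd').mul_right hw').mul_right (hfix s hs)

/-! ### A regular element -/

/-- The parameters of the half sum of the positive coroots. -/
def rhoA : List ℤ := [8, 11, 15, 21, 15, 8]

theorem rho_chk : (∀ r < 72, fval tblE6 rhoA r ≠ 0 ∧ -12 < fval tblE6 rhoA r ∧ fval tblE6 rhoA r < 12 ∧
    (0 < fval tblE6 rhoA r → 72 ≤ 2 * r)) ∧ ∀ k < 6, 0 < fval tblE6 rhoA (tblE6.simp' k) := by decide +kernel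

/-- The regular element attached to a root of unity. -/
noncomputable def regPar (l : Fˣ) : Fin chevE6.rank → Fˣ := fun i => l ^ rhoA.getD i 0

theorem chr_reg (l : Fˣ) (r : ℕ) : χ[regPar l] r = (l : F) ^ fval tblE6 rhoA r :=
  chr_cochar certE6C rhoA l r

theorem diag_of_comm_reg {l : Fˣ} (hl : orderOf l = 25) {g : GL chevE6.Idx F} (hg : g ∈ chevE6.group F)
    (h : tH (regPar l) * g = g * tH (regPar l)) : g ∈ chevE6.diagonalSubgroup F := by
  obtain ⟨w, hw, hwc, u, hu, d, hd, s, hs, -, rfl⟩ := cent_decomp certE6C fullCertE6 hg h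
  have hinj : ∀ a b : ℤ, -12 < a → a < 12 → -12 < b → b < 12 → (l : F) ^ a = (l : F) ^ b → a = b := by
    intro a b ha ha' hb hb' hab
    rw [← Units.val_zpow_eq_zpow_val, ← Units.val_zpow_eq_zpow_val, Units.val_inj, zpow_eq_zpow_iff_modEq, hl,
      Int.modEq_iff_dvd] at hab
    omega
  have hone : ∀ x ∈ fixU certE6C (regPar l), x = 1 := by
    rintro _ ⟨t, ht, rfl⟩
    refine List.prod_eq_one fun x hx => ?_
    obtain ⟨r, hr, rfl⟩ := List.mem_map.1 hx
    have hr72 : r < 72 := (List.mem_range'_1.1 hr).2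
    obtain ⟨h0, h1, h2, -⟩ := rho_chk.1 r hr72
    rw [ht r ?_, xg_zero]
    rw [chr_reg]
    intro e
    exact h0 (hinj _ 0 h1 h2 (by norm_num) (by norm_num) (by rw [e, zpow_zero]))
  rw [hone u hu, hone s hs, one_mul, mul_one]
  refine mul_mem hd (word_kernel certE6C fullCertE6 _ rfl hw fun k hk => ?_)
  have hs' : tblE6.simp' k < 72 := certE6C.spec.simp_lt k hk
  have hw' : wperm tblE6 w (tblE6.simp' k) < 72 := wperm_lt certE6C hw hs'
  obtain ⟨-, a1, a2, -⟩ := rho_chk.1 _ hs'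
  obtain ⟨-, b1, b2, hpos⟩ := rho_chk.1 _ hw'
  have e := hwc _ hs'
  rw [chr_reg, chr_reg] at e
  rw [hinj _ _ b1 b2 a1 a2 e] at hpos
  exact hpos (rho_chk.2 k hk)

/-! ### The stabiliser acts with exponent prime to five -/

theorem wperm_power (w : List ℕ) (i r : ℕ) :
    wperm tblE6 (List.replicate i w).flatten r = (fun t => wperm tblE6 w t)^[i] r :=
  Cfsg.Lib.Chev.AltSection.wperm_flatten w i r

theorem iterate_lt {w : List ℕ} (hw : IsWord chevE6 w) (i : ℕ) {r : ℕ} (hr : r < 72) :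
    (fun t => wperm tblE6 w t)^[i] r < 72 := by
  induction i with
  | zero => exact hr
  | succ i ih => rw [Function.iterate_succ_apply']; exact wperm_lt certE6C hw ih

variable [Fintype F]

set_option quotPrecheck false in
local notation "G6" => ↥(chevE6.group F)

/-- The diagonal subgroup inside the group. -/
noncomputable def Td (F : Type*) [Field F] : Subgroup ↥(chevE6.group F) :=
  (chevE6.diagonalSubgroup F).subgroupOf (chevE6.group F)

theorem Td_comm {a b : G6} (ha : a ∈ Td F) (hb : b ∈ Td F) : a * b = b * a :=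
  Subtype.ext (Cfsg.Lib.Chev.G2Alt.diag_commute certE6C (Subgroup.mem_subgroupOf.1 ha) (Subgroup.mem_subgroupOf.1 hb))

theorem conj_of_par {g : G6} {c e : Fin chevE6.rank → Fˣ} {t t' : G6} (ht : (t : GL chevE6.Idx F) = tH c)
    (ht' : (t' : GL chevE6.Idx F) = tH e) (h : g * t * g⁻¹ = t') :
    (g : GL chevE6.Idx F) * tH c * (g : GL chevE6.Idx F)⁻¹ = tH e := by
  rw [← ht, ← ht', ← h]; rfl

/-- Five-subgroups centralising a chosen torus element are conjugate into the diagonal subgroup. -/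
theorem toral_of_cent (hq : Nat.card F % 25 = 1) (hζ : IsPrimitiveRoot ζ 5) {c : Fin chevE6.rank → Fˣ}
    (hc : HasVec (ℓ := 5) ζ c x₀) {x : G6} (hx : (x : GL chevE6.Idx F) = tH c) {P : Subgroup G6}
    (hP : IsPGroup 5 P) (hPx : ∀ p ∈ P, x * p = p * x) :
    ∃ g : G6, g * x = x * g ∧ ∀ p ∈ P, g * p * g⁻¹ ∈ Td F := by
  classical
  haveI : Fact (Nat.Prime 5) := ⟨by norm_num⟩
  let Cx : Subgroup G6 := Subgroup.centralizer {x}
  have hTC : Td F ≤ Cx := fun t ht => Subgroup.mem_centralizer_singleton_iff.2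
    (Td_comm ht (Subgroup.mem_subgroupOf.2 (by rw [hx, ← torusHom_range certE6C]; exact ⟨c, rfl⟩)))
  let T5 : Subgroup G6 :=
    { carrier := {t | t ∈ Td F ∧ ∃ k : ℕ, t ^ 5 ^ k = 1}
      one_mem' := ⟨one_mem _, 0, one_pow _⟩
      mul_mem' := fun {a b} ⟨ha, i, hi⟩ ⟨hb, j, hj⟩ => ⟨mul_mem ha hb, i + j, by
        rw [(show Commute a b from Td_comm ha hb).mul_pow, pow_add, pow_mul a, hi, one_pow, one_mul, mul_comm, pow_mul,
          hj, one_pow]⟩
      inv_mem' := fun {a} ⟨ha, i, hi⟩ => ⟨inv_mem ha, i, by rw [inv_pow, hi, inv_one]⟩ }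
  have hT5 : IsPGroup 5 T5 := fun t => ⟨t.2.2.choose, Subtype.ext t.2.2.choose_spec⟩
  obtain ⟨S, hS⟩ := (hT5.comap_of_injective Cx.subtype Cx.subtype_injective).exists_le_sylow
  -- the Sylow subgroup is toral
  obtain ⟨l, hl⟩ : ∃ l : Fˣ, orderOf l = 25 := by
    have hdvd : 25 ∣ Nat.card Fˣ := by
      rw [Nat.card_units]
      exact (Nat.modEq_iff_dvd' Nat.card_pos).1 hq.symm
    obtain ⟨u, hu⟩ := IsCyclic.exists_ofOrder_eq_natCard (α := Fˣ)
    obtain ⟨m, hm⟩ := hdvd
    refine ⟨u ^ m, ?_⟩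
    rw [orderOf_pow' u (by rintro rfl; simp at hm), hu, hm, Nat.gcd_mul_left_left, Nat.mul_div_cancel _ (by
      rcases Nat.eq_zero_or_pos m with rfl | h
      · simp at hm
      · exact h)]
  have hrmem : tH (regPar l) ∈ chevE6.group F :=
    diag_le_group certE6C (by rw [← torusHom_range certE6C]; exact ⟨_, rfl⟩)
  let R : G6 := ⟨tH (regPar l), hrmem⟩
  have hR : R ∈ T5 := ⟨Subgroup.mem_subgroupOf.2 (by rw [← torusHom_range certE6C]; exact ⟨_, rfl⟩), 2,
    Subtype.ext (by
      show tH (regPar l) ^ 5 ^ 2 = 1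
      rw [← map_pow, ← map_one tH]
      refine congrArg _ (funext fun i => ?_)
      show (l ^ rhoA.getD i 0) ^ (5 ^ 2) = 1
      rw [← zpow_natCast, zpow_comm, zpow_natCast, show (5 ^ 2 : ℕ) = orderOf l by rw [hl]; norm_num, pow_orderOf_eq_one,
        one_zpow])⟩
  have hST : ∀ s ∈ (S : Subgroup Cx), (s : G6) ∈ T5 := by
    let T' : Subgroup S := (T5.comap Cx.subtype).subgroupOf S
    by_contra hne
    have hlt : T' < ⊤ := lt_top_iff_ne_top.2 fun e => hne fun s hs => by
      have : (⟨s, hs⟩ : S) ∈ T' := e ▸ Subgroup.mem_top _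
      exact this
    haveI : Group.IsNilpotent S := S.2.isNilpotent
    obtain ⟨g, hgN, hgT⟩ := SetLike.exists_of_lt (normalizerCondition_of_isNilpotent T' hlt)
    obtain ⟨w, hw, hfus⟩ := exists_fusion_word ((g : Cx) : G6).2
    have hgx : (g : Cx).1 * x * (g : Cx).1⁻¹ = x := mul_inv_eq_iff_eq_mul.2
      (Subgroup.mem_centralizer_singleton_iff.1 (g : Cx).2)
    have hwx : E6Alt.act w x₀ = x₀ := HasVec.act hζ hw hc hc (hfus c c (conj_of_par hx hx hgx))
    obtain ⟨v, hv, hvk⟩ := stab_x₀ hw hwx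
    have hw12 : ∀ r < 72, wperm tblE6 (List.replicate 12 w).flatten r = r := by
      have hvw : IsWord chevE6 v := fun i hi => TwE6Five.stW_word v hv i hi
      have hsame := samePerm_of_simple certE6C fullCertE6 hw hvw hvk
      have hrep : ∀ (u : List ℕ), IsWord chevE6 u → IsWord chevE6 (List.replicate 12 u).flatten := fun u hu i hi => by
        obtain ⟨l, hl, hil⟩ := List.mem_flatten.1 hi
        rw [List.mem_replicate] at hl
        exact hu i (hl.2 ▸ hil)
      have hs12 : SamePerm chevE6 tblE6 (List.replicate 12 v).flatten [] :=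
        samePerm_of_simple certE6C fullCertE6 (hrep v hvw) (fun i hi => absurd hi List.not_mem_nil)
          fun k hk => stW_exp v hv k hk
      intro r hr
      refine Eq.trans ?_ (hs12 r hr)
      rw [wperm_power, wperm_power]
      have : ∀ n, (fun t => wperm tblE6 w t)^[n] r = (fun t => wperm tblE6 v t)^[n] r ∧
          (fun t => wperm tblE6 v t)^[n] r < 72 := by
        intro n
        induction n with
        | zero => exact ⟨rfl, hr⟩
        | succ n ih =>
          rw [Function.iterate_succ_apply', Function.iterate_succ_apply', ih.1]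
          exact ⟨hsame _ ih.2, wperm_lt certE6C hvw ih.2⟩
      exact (this 12).1
    -- the twelfth power centralises the regular element
    have hconj : ∀ t ∈ T5, (g : Cx).1 * t * (g : Cx).1⁻¹ ∈ T5 := fun t ht => by
      have hts : (⟨t, hTC ht.1⟩ : Cx) ∈ (S : Subgroup Cx) := hS (Subgroup.mem_comap.2 ht)
      exact (Subgroup.mem_normalizer_iff.1 hgN ⟨_, hts⟩).1 (show (⟨_, hts⟩ : S) ∈ T' from ht)
    have horb : ∀ i : ℕ, ∃ e, ((((g : Cx).1 ^ i * R * ((g : Cx).1 ^ i)⁻¹) : G6) : GL chevE6.Idx F) = tH e ∧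
        (g : Cx).1 ^ i * R * ((g : Cx).1 ^ i)⁻¹ ∈ T5 ∧
        ∀ r < 72, χ[e] ((fun t => wperm tblE6 w t)^[i] r) = χ[regPar l] r := by
      intro i
      induction i with
      | zero => exact ⟨regPar l, by simp [R], by simpa using hR, fun r _ => rfl⟩
      | succ i ih =>
        obtain ⟨e, he, hmem, hchr⟩ := ih
        have hmem' := hconj _ hmem
        obtain ⟨e', he'⟩ := exists_par (Subgroup.mem_subgroupOf.1 hmem'.1)
        have hg' := hfus e e' (conj_of_par he he' rfl)
        have hid : (g : Cx).1 ^ (i + 1) * R * ((g : Cx).1 ^ (i + 1))⁻¹ =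
            (g : Cx).1 * ((g : Cx).1 ^ i * R * ((g : Cx).1 ^ i)⁻¹) * (g : Cx).1⁻¹ := by rw [pow_succ']; group
        rw [hid]
        refine ⟨e', he', hmem', fun r hr => ?_⟩
        rw [Function.iterate_succ_apply', hg' _ (iterate_lt hw i hr), hchr r hr]
    obtain ⟨e, he, -, hchr⟩ := horb 12
    have he12 : tH e = tH (regPar l) := torusHom_congr fun r hr => by
      have := hchr r hr
      rwa [← wperm_power, hw12 r hr] at this
    rw [he12] at he
    have hmemd : (((g : Cx).1 ^ 12 : G6) : GL chevE6.Idx F) ∈ chevE6.diagonalSubgroup F :=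
      diag_of_comm_reg hl ((g : Cx).1 ^ 12).2 (by
        rw [Subgroup.coe_mul, Subgroup.coe_mul, Subgroup.coe_inv] at he
        exact (mul_inv_eq_iff_eq_mul.1 he).symm)
    obtain ⟨k, hk⟩ := S.2 g
    have hk' : (g : Cx).1 ^ 5 ^ k = 1 := congrArg (fun z : S => ((z : Cx) : G6)) hk
    refine hgT (show (g : Cx).1 ∈ T5 from ⟨?_, k, hk'⟩)
    have hcop : Nat.Coprime 12 (orderOf (g : Cx).1) :=
      Nat.Coprime.coprime_dvd_right (orderOf_dvd_of_pow_eq_one hk') (Nat.Coprime.pow_right k (by norm_num))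
    obtain ⟨j, hj⟩ := exists_pow_eq_self_of_coprime hcop
    rw [← hj]
    exact pow_mem (Subgroup.mem_subgroupOf.2 hmemd) j
  -- conjugation
  have hPC : P ≤ Cx := fun p hp => Subgroup.mem_centralizer_singleton_iff.2 (hPx p hp).symm
  obtain ⟨S', hS'⟩ := (hP.comap_of_injective Cx.subtype Cx.subtype_injective).exists_le_sylow
  obtain ⟨g, hg⟩ := MulAction.exists_smul_eq Cx S' S
  refine ⟨g, Subgroup.mem_centralizer_singleton_iff.1 g.2, fun p hp => ?_⟩
  have h1 : g * (⟨p, hPC hp⟩ : Cx) * g⁻¹ ∈ (S : Subgroup Cx) := by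
    rw [← hg]
    exact ⟨_, hS' (show (⟨p, hPC hp⟩ : Cx) ∈ P.comap Cx.subtype from hp), rfl⟩
  exact (hST _ h1).1

theorem prod_lens : ∏ j ∈ Finset.range chevE6.rank, (nth ([], []) weylE6 j).1.length = 51840 := by decide +kernel

theorem index_mod_aux {D : ChevalleyDatum} {T : Tbl} {F : Type*} [Field F] [Finite F] (C : Cert D T)
    (K : FullCert D T) {Ls : List WLevel} (hW : chkWeyl T Ls = true) {m : ℕ} (hq : Nat.card F % m = 1)
    (hn : ¬ m ∣ ∏ j ∈ Finset.range D.rank, (nth ([], []) Ls j).1.length) :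
    ¬ m ∣ ((D.diagonalSubgroup F).subgroupOf (D.group F)).index := by
  set T' := (D.diagonalSubgroup F).subgroupOf (D.group F)
  have h := card_group C K (F := F) hW
  have hT : Nat.card T' = Nat.card ↥(D.diagonalSubgroup F) :=
    Nat.card_congr (Subgroup.subgroupOfEquivOfLe (diag_le_group C)).toEquiv
  rw [← T'.card_mul_index, hT, mul_comm (Nat.card F ^ (D.nroots / 2)), mul_assoc] at h
  haveI : Finite (GL D.Idx F) := inferInstance
  rw [Nat.eq_of_mul_eq_mul_left Nat.card_pos h]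
  intro hd
  apply hn
  have hq' : (Nat.card F : ZMod m) = 1 := by
    rw [← ZMod.natCast_mod, hq, Nat.cast_one]
  rw [← ZMod.natCast_eq_zero_iff] at hd ⊢
  simpa [hq', Nat.cast_prod, Nat.cast_list_sum, List.map_map, Function.comp_def] using hd

/-- The index of the diagonal subgroup. -/
theorem index_mod (hq : Nat.card F % 25 = 1) : ¬ 25 ∣ (Td F).index :=
  index_mod_aux certE6C fullCertE6 chkWeylE6 hq (by rw [prod_lens]; norm_num)

/-- A five-group acting on the cosets has an orbit of size at most five. -/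
theorem exists_small_orbit (hq : Nat.card F % 25 = 1) {P : Type*} [Group P] [Finite P] (hP : IsPGroup 5 P)
    (f : P →* G6) : ∃ (t : G6) (Q : Subgroup P), Q.index ≤ 5 ∧ ∀ x ∈ Q, t⁻¹ * f x * t ∈ Td F := by
  classical
  haveI : Fact (Nat.Prime 5) := ⟨by norm_num⟩
  letI : MulAction P (G6 ⧸ Td F) := MulAction.compHom _ f
  by_contra hno
  push Not at hno
  refine index_mod hq ?_
  rw [Subgroup.index_eq_card, Nat.card_congr (MulAction.selfEquivSigmaOrbits P (G6 ⧸ Td F))]
  haveI : Fintype (Quotient (MulAction.orbitRel P (G6 ⧸ Td F))) := Fintype.ofFinite _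
  rw [Nat.card_sigma]
  refine Finset.dvd_sum fun ω _ => ?_
  rw [Nat.card_congr (MulAction.orbitEquivQuotientStabilizer P ω.out), ← Subgroup.index_eq_card]
  obtain ⟨j, hj⟩ := hP.index (MulAction.stabilizer P ω.out)
  rw [hj]
  refine Nat.pow_dvd_pow 5 (m := 2) ?_
  by_contra hj2
  obtain ⟨t, ht⟩ := QuotientGroup.mk_surjective ω.out
  obtain ⟨x, hx, hxT⟩ := hno t (MulAction.stabilizer P ω.out) (by
    rw [hj]
    calc 5 ^ j ≤ 5 ^ 1 := Nat.pow_le_pow_right (by norm_num) (by omega)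
      _ = 5 := pow_one 5)
  apply hxT
  rw [MulAction.mem_stabilizer_iff, ← ht] at hx
  have h1 : ((f x * t : G6) : G6 ⧸ Td F) = t := hx
  have := QuotientGroup.eq.1 h1.symm
  simpa [mul_assoc] using this

theorem card_Td_five (hζ : IsPrimitiveRoot ζ 5) :
    Nat.card {t : G6 // t ∈ Td F ∧ t ^ 5 = 1} ≤ 5 ^ 6 := by
  classical
  haveI : Fact (Nat.Prime 5) := ⟨by norm_num⟩
  have : ∀ t : {t : G6 // t ∈ Td F ∧ t ^ 5 = 1}, ∃ v : Fin 6 → ZMod 5, ∃ c, ((t : G6) : GL chevE6.Idx F) = tH c ∧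
      HasVec ζ c v := fun t => by
    obtain ⟨c, hc⟩ := exists_par (Subgroup.mem_subgroupOf.1 t.2.1)
    obtain ⟨v, hv⟩ := exists_vec (ℓ := 5) hζ (c := c) (by
      rw [← hc, ← SubmonoidClass.coe_pow, t.2.2]; rfl)
    exact ⟨v, c, hc, hv⟩
  choose v c hc hv using this
  refine (Nat.card_le_card_of_injective v fun a b e => Subtype.ext (Subtype.ext ?_)).trans_eq (by simp)
  rw [hc a, hc b]
  exact tH_ext fun k => by
    have hr : tblE6.simp' k < 72 := certE6C.spec.simp_lt k k.2
    rw [hv a _ hr, hv b _ hr, e]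

/-- The rank of a five-group in the group. -/
theorem frattini_index (hq : Nat.card F % 25 = 1) (hζ : IsPrimitiveRoot ζ 5) {P : Type*} [Group P] [Finite P]
    (hP : IsPGroup 5 P) (f : P →* G6) (hf : Function.Injective f) : (frattini P).index ≤ 5 ^ 7 := by
  classical
  haveI : Fact (Nat.Prime 5) := ⟨by norm_num⟩
  obtain ⟨t, Q, hQ, hQT⟩ := exists_small_orbit hq hP f
  haveI hQc : IsMulCommutative Q := ⟨⟨fun a b => Subtype.ext (hf (by
    have := Td_comm (hQT _ a.2) (hQT _ b.2)
    rw [show t⁻¹ * f a * t * (t⁻¹ * f b * t) = t⁻¹ * (f a * f b) * t by group,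
      show t⁻¹ * f b * t * (t⁻¹ * f a * t) = t⁻¹ * (f b * f a) * t by group] at this
    rw [Subgroup.coe_mul, Subgroup.coe_mul, map_mul, map_mul]
    exact mul_left_cancel (mul_right_cancel this)))⟩⟩
  letI : CommGroup Q := { (inferInstance : Group Q) with mul_comm := hQc.is_comm.comm }
  let p5 : Q →* Q := powMonoidHom 5
  have hrange : p5.range.map Q.subtype ≤ frattini P := by
    rintro _ ⟨_, ⟨a, rfl⟩, rfl⟩
    exact Cfsg.Lib.PGroup.pow_mem_frattini hP _
  have hker : Nat.card p5.ker ≤ 5 ^ 6 := by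
    refine le_trans ?_ (card_Td_five (F := F) hζ)
    refine Nat.card_le_card_of_injective (fun a => ⟨t⁻¹ * f (a : Q) * t, hQT _ (a : Q).2, ?_⟩) fun a b e => ?_
    · have : ((a : Q) : P) ^ 5 = 1 := congrArg Subtype.val (MonoidHom.mem_ker.1 a.2)
      rw [show (t⁻¹ * f (a : Q) * t) ^ 5 = t⁻¹ * f (a : Q) ^ 5 * t by
        simpa using conj_pow (a := t⁻¹) (b := f (a : Q)) (i := 5), ← map_pow, this, map_one, mul_one, inv_mul_cancel]
    · have h := congrArg Subtype.val e
      exact Subtype.ext (Subtype.ext (hf (mul_left_cancel (mul_right_cancel h))))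
  have hidx : p5.range.index = Nat.card p5.ker := by
    have h1 := p5.range.card_mul_index
    have h2 := p5.ker.card_mul_index
    rw [Subgroup.index_ker] at h2
    have h3 : Nat.card p5.range * p5.range.index = Nat.card p5.range * Nat.card p5.ker := by
      rw [h1, ← h2, mul_comm]
    exact Nat.eq_of_mul_eq_mul_left Nat.card_pos h3
  calc (frattini P).index ≤ (p5.range.map Q.subtype).index :=
        Nat.le_of_dvd (Nat.pos_of_ne_zero Subgroup.index_ne_zero_of_finite) (Subgroup.index_dvd_of_le hrange)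
    _ = p5.range.index * Q.index := by rw [Subgroup.index_map_subtype]
    _ ≤ 5 ^ 6 * 5 := Nat.mul_le_mul (hidx ▸ hker) hQ
    _ = 5 ^ 7 := by norm_num

end Cfsg.Lib.Chev.E6Alt
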