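import Cfsg.Agent.Lib.Chev.E6Alt.Data
import Cfsg.Agent.Lib.Chev.TwE6Five.Checks

/-!
Toral vectors modulo a prime on the root system of type E6: the action of words, invariant counts, and
normal vectors.
-/

set_option autoImplicit false
set_option maxRecDepth 100000

namespace Cfsg.Lib.Chev.E6Alt

open Cfsg.Lie Finset


/-- The coefficient of a root on a fundamental root. -/
noncomputable def co6 (r : ℕ) (k : Fin 6) : ℤ := tblE6.coroot r k

variable {R : Type*} [CommRing R]

/-- The value of a vector at a root. -/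
noncomputable def val (v : Fin 6 → R) (r : ℕ) : R := ∑ k, (co6 r k : R) * v k

/-- The action of a word. -/
noncomputable def act (u : List ℕ) (v : Fin 6 → R) : Fin 6 → R := fun k => val v (wperm tblE6 u (tblE6.simp' k))

theorem val_simp (v : Fin 6 → R) (k : Fin 6) : val v (tblE6.simp' k) = v k := by
  have h := certE6C.spec.cor_simple k k.2
  simp only [val, co6]
  rw [Finset.sum_eq_single k]
  · rw [h k k.2]; simp
  · intro j _ hj
    rw [h j j.2, if_neg (fun e => hj (Fin.ext e))]; simp
  · intro hk; exact absurd (Finset.mem_univ k) hk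

theorem co6_wperm {u : List ℕ} (hu : IsWord chevE6 u) {r : ℕ} (hr : r < 72) (l : Fin 6) :
    co6 (wperm tblE6 u r) l = ∑ j : Fin 6, co6 r j * co6 (wperm tblE6 u (tblE6.simp' j)) l := by
  simp only [co6]
  rw [coroot_wperm certE6C hu (r := r) hr l l.2, Finset.sum_range]
  rfl

theorem val_act {u : List ℕ} (hu : IsWord chevE6 u) (v : Fin 6 → R) {r : ℕ} (hr : r < 72) :
    val (act u v) r = val v (wperm tblE6 u r) := by
  simp only [val, act, co6_wperm hu hr, Int.cast_sum, Int.cast_mul, Finset.sum_mul, Finset.mul_sum]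
  rw [Finset.sum_comm]
  exact Finset.sum_congr rfl fun j _ => Finset.sum_congr rfl fun k _ => by ring

theorem act_append {a b : List ℕ} (ha : IsWord chevE6 a) (hb : IsWord chevE6 b) (v : Fin 6 → R) :
    act (a ++ b) v = act b (act a v) := by
  funext k
  have hk : tblE6.simp' k < 72 := certE6C.spec.simp_lt k k.2
  show val v _ = val (act a v) _
  rw [val_act ha v (show wperm tblE6 b (tblE6.simp' k) < 72 from wperm_lt certE6C hb hk), wperm_append]

theorem act_nil (v : Fin 6 → R) : act [] v = v := funext fun k => val_simp v k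

theorem val_smul (c : R) (v : Fin 6 → R) (r : ℕ) : val (c • v) r = c * val v r := by
  simp only [val, Pi.smul_apply, smul_eq_mul, Finset.mul_sum]
  exact Finset.sum_congr rfl fun k _ => by ring

theorem val_zero (r : ℕ) : val (0 : Fin 6 → R) r = 0 := by simp [val]

/-! ### Counts -/

/-- The roots of a given value. -/
noncomputable def cnt [DecidableEq R] (v : Fin 6 → R) (j : R) : ℕ :=
  ((range 72).filter fun r => val v r = j).card

theorem cnt_act [DecidableEq R] {u : List ℕ} (hu : IsWord chevE6 u) (v : Fin 6 → R) (j : R) :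
    cnt (act u v) j = cnt v j := by
  refine Finset.card_bij (fun r _ => wperm tblE6 u r) (fun r hr => ?_) (fun a ha b hb e => ?_) fun r hr => ?_
  · simp only [mem_filter, Finset.mem_range] at hr ⊢
    exact ⟨wperm_lt certE6C hu hr.1, by rw [← val_act hu v hr.1, hr.2]⟩
  · simp only [mem_filter, Finset.mem_range] at ha hb
    exact wperm_inj certE6C hu ha.1 hb.1 e
  · simp only [mem_filter, Finset.mem_range] at hr ⊢
    have hlt : wperm tblE6 u.reverse r < 72 := wperm_lt certE6C hu.reverse hr.1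
    have he : wperm tblE6 u (wperm tblE6 u.reverse r) = r := by
      have := wperm_reverse certE6C hu.reverse hr.1
      rwa [List.reverse_reverse] at this
    exact ⟨_, ⟨hlt, by rw [val_act hu v hlt, he, hr.2]⟩, he⟩

/-- The value of a vector at a weight, times three. -/
noncomputable def wval (v : Fin 6 → R) (a : ℕ) : R := ∑ k : Fin 6, (((wtL.getD a []).getD k 0 : ℤ) : R) * v k

theorem wtRefl_chk : ∀ i < 6, ∀ a < 27, (wtRefl.getD i []).getD a 27 < 27 ∧
    (∀ b < 27, (wtRefl.getD i []).getD b 27 = (wtRefl.getD i []).getD a 27 → b = a) ∧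
    ∀ l : Fin 6, (∑ k : Fin 6, (wtL.getD a []).getD k 0 * co6 (tblE6.refl' i (tblE6.simp' k)) l) =
      (wtL.getD ((wtRefl.getD i []).getD a 27) []).getD l 0 := by
  decide +kernel

/-- The weights of a given value. -/
noncomputable def wcnt [DecidableEq R] (v : Fin 6 → R) (j : R) : ℕ :=
  ((range 27).filter fun a => wval v a = j).card

theorem wval_refl {i : ℕ} (hi : i < 6) (v : Fin 6 → R) {a : ℕ} (ha : a < 27) :
    wval (act [i] v) a = wval v ((wtRefl.getD i []).getD a 27) := by
  have h := (wtRefl_chk i hi a ha).2.2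
  simp only [wval, act, val, Finset.mul_sum]
  rw [Finset.sum_comm]
  refine Finset.sum_congr rfl fun l _ => ?_
  rw [← h l, Int.cast_sum, Finset.sum_mul]
  exact Finset.sum_congr rfl fun k _ => by
    rw [show wperm tblE6 [i] (tblE6.simp' k) = tblE6.refl' i (tblE6.simp' k) from rfl]
    push_cast; ring

theorem wcnt_refl [DecidableEq R] {i : ℕ} (hi : i < 6) (v : Fin 6 → R) (j : R) :
    wcnt (act [i] v) j = wcnt v j := by
  unfold wcnt
  let σ : ℕ → ℕ := fun a => (wtRefl.getD i []).getD a 27
  have hinj : Set.InjOn σ (range 27 : Finset ℕ) := fun a ha b hb e =>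
    ((wtRefl_chk i hi a (Finset.mem_range.1 ha)).2.1 b (Finset.mem_range.1 hb) e.symm).symm
  have himg : (range 27).image σ = range 27 := by
    refine Finset.eq_of_subset_of_card_le (fun x hx => ?_) ?_
    · obtain ⟨a, ha, rfl⟩ := Finset.mem_image.1 hx
      exact Finset.mem_range.2 (wtRefl_chk i hi a (Finset.mem_range.1 ha)).1
    · rw [Finset.card_image_of_injOn hinj]
  conv_rhs => rw [← himg, Finset.filter_image, Finset.card_image_of_injOn (hinj.mono (Finset.filter_subset _ _))]
  refine congrArg Finset.card (Finset.filter_congr fun a ha => ?_)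
  rw [wval_refl hi v (Finset.mem_range.1 ha)]

theorem wcnt_act [DecidableEq R] : ∀ {u : List ℕ}, IsWord chevE6 u → ∀ (v : Fin 6 → R) (j : R),
    wcnt (act u v) j = wcnt v j
  | [], _, v, j => by rw [act_nil]
  | i :: u, hu, v, j => by
    rw [show (i :: u) = [i] ++ u from rfl, act_append (fun x hx => by
      rw [List.mem_singleton] at hx; rw [hx]; exact hu i List.mem_cons_self) hu.tail.2,
      wcnt_act hu.tail.2, wcnt_refl hu.tail.1]

/-- If a word multiplies a vector by a unit, the counts are constant on its orbits. -/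
theorem cnt_scale {K : Type*} [Field K] [DecidableEq K] {u : List ℕ} (hu : IsWord chevE6 u) {v : Fin 6 → K}
    {c : K} (hc : c ≠ 0) (h : act u v = c • v) (j : K) :
    cnt v (c * j) = cnt v j ∧ wcnt v (c * j) = wcnt v j := by
  constructor
  · rw [← cnt_act hu v (c * j), h]
    refine congrArg Finset.card (Finset.filter_congr fun r _ => ?_)
    rw [val_smul]
    exact mul_right_inj' hc
  · rw [← wcnt_act hu v (c * j), h]
    refine congrArg Finset.card (Finset.filter_congr fun a _ => ?_)
    rw [show wval (c • v) a = c * wval v a by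
      simp only [wval, Pi.smul_apply, smul_eq_mul, Finset.mul_sum]
      exact Finset.sum_congr rfl fun k _ => by ring]
    exact mul_right_inj' hc

/-! ### Normal vectors -/

theorem hiW_chk : ∀ r < 72, (∀ i ∈ hiW.getD r [], i < 6) ∧ wperm tblE6 (hiW.getD r []) 71 = r := by decide +kernel

/-- The node of the chain with a given number. -/
def chainNode (i : ℕ) : ℕ := if i = 0 then 0 else i + 1

/-- Six times the centred coordinates on the chain. -/
def cB : Fin 6 → Fin 6 → ℤ :=
  ![![5, 0, 4, 3, 2, 1], ![-1, 0, 4, 3, 2, 1], ![-1, 0, -2, 3, 2, 1], ![-1, 0, -2, -3, 2, 1],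
    ![-1, 0, -2, -3, -4, 1], ![-1, 0, -2, -3, -4, -5]]

/-- The coordinates on the chain, centred. -/
noncomputable def cA (ι : R) (v : Fin 6 → R) (i : Fin 6) : R := ι * ∑ k, (cB i k : R) * v k

theorem cA_sum (ι : R) (v : Fin 6 → R) : ∑ i, cA ι v i = 0 := by
  simp only [cA, cB, Fin.sum_univ_six, Matrix.cons_val]
  push_cast
  ring

theorem co6_top : ∀ k : Fin 6, co6 71 k = ![1, 2, 2, 3, 2, 1] k := by decide +kernel

theorem cA_refl_chk : ∀ i : Fin 5, wperm tblE6 [chainNode i] 71 = 71 ∧ chainNode i < 6 ∧ ∀ j l : Fin 6,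
    (∑ k : Fin 6, cB j k * co6 (wperm tblE6 [chainNode i] (tblE6.simp' k)) l) =
      cB (Equiv.swap i.castSucc i.succ j) l := by decide +kernel

theorem cA_swap (ι : R) (i : Fin 5) (v : Fin 6 → R) :
    cA ι (act [chainNode i] v) = cA ι v ∘ Equiv.swap i.castSucc i.succ := by
  funext j
  simp only [cA, Function.comp, act, val, Finset.mul_sum]
  rw [Finset.sum_comm]
  refine Finset.sum_congr rfl fun l _ => ?_
  rw [← (cA_refl_chk i).2.2 j l, Int.cast_sum, Finset.sum_mul, Finset.mul_sum]
  exact Finset.sum_congr rfl fun k _ => by push_cast; ring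

/-- A normal vector: it vanishes at the highest root and its chain coordinates increase. -/
def NF {ℓ : ℕ} [Fact ℓ.Prime] (ι : ZMod ℓ) (v : Fin 6 → ZMod ℓ) : Prop :=
  val v 71 = 0 ∧ ∀ i : Fin 5, (cA ι v i.castSucc).val ≤ (cA ι v i.succ).val

theorem exists_NF {ℓ : ℕ} [Fact ℓ.Prime] (ι : ZMod ℓ) (v : Fin 6 → ZMod ℓ) {r : ℕ}
    (hr : r < 72) (h0 : val v r = 0) : ∃ u, IsWord chevE6 u ∧ NF ι (act u v) := by
  classical
  let S : Finset (Fin 6 → ZMod ℓ) :=
    Finset.univ.filter fun x => val x 71 = 0 ∧ ∃ u, IsWord chevE6 u ∧ act u v = x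
  have hS : S.Nonempty := by
    obtain ⟨hw, e⟩ := hiW_chk r hr
    refine ⟨act (hiW.getD r []) v, Finset.mem_filter.2 ⟨Finset.mem_univ _, ?_, _, hw, rfl⟩⟩
    rw [val_act hw v (by norm_num), e, h0]
  obtain ⟨x, hx, hmax⟩ := S.exists_max_image (fun x => ∑ i : Fin 6, (i : ℕ) * (cA ι x i).val) hS
  obtain ⟨h71, u, hu, hux⟩ := (Finset.mem_filter.1 hx).2
  refine ⟨u, hu, hux ▸ h71, fun i => ?_⟩
  rw [hux]
  by_contra hlt
  rw [not_le] at hlt
  obtain ⟨hfix, hlt6, -⟩ := cA_refl_chk i
  have hw1 : IsWord chevE6 [chainNode i] := fun a ha => by rw [List.mem_singleton] at ha; rw [ha]; exact hlt6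
  have hy : act [chainNode i] x ∈ S := Finset.mem_filter.2 ⟨Finset.mem_univ _,
    by rw [val_act hw1 x (by norm_num), hfix, h71], u ++ [chainNode i], hu.append hw1,
    by rw [act_append hu hw1, hux]⟩
  have h := hmax _ hy
  rw [cA_swap ι] at h
  fin_cases i <;> simp [Fin.sum_univ_six, Equiv.swap_apply_def, Function.comp] at h hlt ⊢ <;> omega

/-- Nondecreasing lists. -/
def incs : ℕ → ℕ → ℕ → List (List ℕ)
  | _, 0, _ => [[]]
  | ℓ, n + 1, lo => (List.range' lo (ℓ - lo)).flatMap fun a => (incs ℓ n a).map fun l => a :: l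

theorem mem_incs {ℓ : ℕ} : ∀ (n lo : ℕ) (f : ℕ → ℕ), (∀ i < n, lo ≤ f i ∧ f i < ℓ) →
    (∀ i, i + 1 < n → f i ≤ f (i + 1)) → (List.range n).map f ∈ incs ℓ n lo
  | 0, _, _, _, _ => by simp [incs]
  | n + 1, lo, f, h1, h2 => by
    rw [List.range_succ_eq_map, List.map_cons, List.map_map, incs, List.mem_flatMap]
    refine ⟨f 0, List.mem_range'_1.2 ⟨(h1 0 (by omega)).1, by have := h1 0 (by omega); omega⟩,
      List.mem_map.2 ⟨_, mem_incs n (f 0) (f ∘ Nat.succ) (fun i hi => ⟨?_, (h1 (i + 1) (by omega)).2⟩)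
        (fun i hi => h2 (i + 1) (by omega)), rfl⟩⟩
    clear h1
    induction i with
    | zero => exact h2 0 (by omega)
    | succ i ih => exact le_trans (ih (by omega)) (h2 (i + 1) (by omega))

/-- The vector with given chain coordinates vanishing at the highest root. -/
def vecOf (half : ℕ) (a : List ℕ) : List ℤ :=
  let x := fun i => ((a.getD i 0 : ℕ) : ℤ)
  [x 0 - x 1, -(x 0 + x 1 + x 2 - x 3 - x 4 - x 5) * half, x 1 - x 2, x 2 - x 3, x 3 - x 4, x 4 - x 5]

theorem eq_vecOf {ℓ : ℕ} [Fact ℓ.Prime] {ι : ZMod ℓ} (hι : ι * 6 = 1) {half : ℕ}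
    (hh : (half : ZMod ℓ) * 2 = 1) {x : Fin 6 → ZMod ℓ} (h : NF ι x) :
    ∃ a ∈ (incs ℓ 6 0).filter fun a => decide (a.sum % ℓ = 0),
      ∀ k : Fin 6, x k = (((vecOf half a).getD k 0 : ℤ) : ZMod ℓ) := by
  let f : ℕ → ℕ := fun i => if hi : i < 6 then (cA ι x ⟨i, hi⟩).val else 0
  refine ⟨(List.range 6).map f, List.mem_filter.2 ⟨mem_incs 6 0 f (fun i hi => ⟨Nat.zero_le _, ?_⟩)
    (fun i hi => ?_), ?_⟩, fun k => ?_⟩
  · simp only [f, dif_pos hi]; exact ZMod.val_lt _
  · simp only [f, dif_pos hi, dif_pos (show i < 6 by omega)]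
    exact h.2 ⟨i, by omega⟩
  · rw [decide_eq_true_eq, ← ZMod.val_natCast, ZMod.val_eq_zero]
    have := cA_sum ι x
    simp only [Fin.sum_univ_six] at this
    simp [List.range_succ, f]
    linear_combination this
  · have h71 : val x 71 = 0 := h.1
    simp only [val, co6_top, Fin.sum_univ_six, Matrix.cons_val] at h71
    push_cast at h71
    fin_cases k <;> simp [vecOf, List.range_succ, f, cA, cB, Fin.sum_univ_six]
    · linear_combination -(x 0) * hι
    · linear_combination -(x 1) * hh + (half : ZMod ℓ) * h71 +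
        (half : ZMod ℓ) * (x 0 + 2 * x 2 + 3 * x 3 + 2 * x 4 + x 5) * hι
    · linear_combination -(x 2) * hι
    · linear_combination -(x 3) * hι
    · linear_combination -(x 4) * hι
    · linear_combination -(x 5) * hι

end Cfsg.Lib.Chev.E6Alt
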